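import Groth.Agent.GeomFieldLib.Corollaries

/-!
# Base change of regular and normal homomorphisms, any extension of residue fields
-/

set_option autoImplicit false
set_option linter.style.haveILetI false

universe u

open TensorProduct

namespace Groth.Agent.GeomFieldLib

theorem isGeomNormal_extend (k K S : Type u) [Field k] [Field K] [Algebra k K] [CommRing S] [Algebra k S]
    (h : EGA4.IsGeomNormal k S) : EGA4.IsGeomNormal K (K ⊗[k] S) := by
  intro K' _ _ hf
  letI : Algebra k K' := ((algebraMap K K').comp (algebraMap k K)).toAlgebra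
  haveI : IsScalarTower k K K' := IsScalarTower.of_algebraMap_eq fun _ => rfl
  exact EGA4Lib.isNormalRing_of_ringEquiv
    (Algebra.TensorProduct.cancelBaseChange k K K' K' S).symm.toRingEquiv
    (isNormalRing_tensor_of_isGeomNormal k S h K')

theorem isGeometricallyRegular_extend (k K S : Type u) [Field k] [Field K] [Algebra k K] [CommRing S] [Algebra k S]
    [IsNoetherianRing S] [IsNoetherianRing (K ⊗[k] S)]
    (h : CAlg.IsGeometricallyRegular k S) : CAlg.IsGeometricallyRegular K (K ⊗[k] S) := by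
  intro K' _ _ hf
  letI : Algebra k K' := ((algebraMap K K').comp (algebraMap k K)).toAlgebra
  haveI : IsScalarTower k K K' := IsScalarTower.of_algebraMap_eq fun _ => rfl
  haveI : IsNoetherianRing ((K ⊗[k] S) ⊗[K] K') :=
    Algebra.FiniteType.isNoetherianRing (K ⊗[k] S) ((K ⊗[k] S) ⊗[K] K')
  haveI : IsNoetherianRing (K' ⊗[K] (K ⊗[k] S)) :=
    isNoetherianRing_of_ringEquiv _ (Algebra.TensorProduct.comm K (K ⊗[k] S) K').toRingEquiv
  haveI : IsNoetherianRing (K' ⊗[k] S) :=
    isNoetherianRing_of_ringEquiv _ (Algebra.TensorProduct.cancelBaseChange k K K' K' S).toRingEquiv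
  haveI := isRegularRing_tensor_of_pi k S (fun k' _ _ hf _ => h k' hf) K'
  exact IsRegularRing.of_ringEquiv (R := K' ⊗[k] S)
    (Algebra.TensorProduct.cancelBaseChange k K K' K' S).symm.toRingEquiv

variable (A B A' : Type u) [CommRing A] [CommRing B] [CommRing A'] [Algebra A B] [Algebra A A']

theorem isNormalHom_tensor (h : EGA4.IsNormalHom A B) : EGA4.IsNormalHom A' (A' ⊗[A] B) := by
  haveI := h.1
  refine ⟨inferInstance, fun p' _ => ?_⟩
  letI := EGA4Lib.residueAlgebra (A := A) p'
  obtain ⟨f⟩ := EGA4Lib.nonempty_fiber_baseChange (A := A) (B := B) (AlgEquiv.refl (R := A') (A₁ := A' ⊗[A] B)) p'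
  exact EGA4Lib.isGeomNormal_congr p'.ResidueField _ f.symm
    (isGeomNormal_extend (p'.comap (algebraMap A A')).ResidueField p'.ResidueField _ (h.2 _))

theorem isRegularHom_tensor [IsNoetherianRing (A' ⊗[A] B)]
    (h : CAlg.IsRegularHom A B) : CAlg.IsRegularHom A' (A' ⊗[A] B) := by
  haveI := h.1
  refine ⟨inferInstance, fun p' _ => ?_⟩
  haveI hN : IsNoetherianRing (p'.Fiber (A' ⊗[A] B)) :=
    EGA4Lib.forall_isCohenMacaulayRing_fiber_iff.isNoetherianRing_fiber A' p'
  letI := EGA4Lib.residueAlgebra (A := A) p'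
  obtain ⟨f⟩ := EGA4Lib.nonempty_fiber_baseChange (A := A) (B := B) (AlgEquiv.refl (R := A') (A₁ := A' ⊗[A] B)) p'
  haveI := (h.2 (p'.comap (algebraMap A A'))).1
  haveI : IsNoetherianRing (p'.ResidueField ⊗[(p'.comap (algebraMap A A')).ResidueField]
      ((p'.comap (algebraMap A A')).Fiber B)) := isNoetherianRing_of_ringEquiv _ f.toRingEquiv
  exact ⟨hN, EGA4Lib.isGeometricallyRegular_congr p'.ResidueField _ f.symm
    (isGeometricallyRegular_extend (p'.comap (algebraMap A A')).ResidueField p'.ResidueField _ (h.2 _).2)⟩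

variable [Module.FaithfullyFlat A A']

theorem isNormalHom_of_tensor (h : EGA4.IsNormalHom A' (A' ⊗[A] B)) : EGA4.IsNormalHom A B := by
  haveI := h.1
  refine ⟨Module.Flat.of_flat_tensorProduct A B A', fun p _ => ?_⟩
  obtain ⟨q, hq⟩ := PrimeSpectrum.comap_surjective_of_faithfullyFlat (A := A) (B := A') ⟨p, ‹_›⟩
  have hpq : p = q.asIdeal.comap (algebraMap A A') := (congrArg PrimeSpectrum.asIdeal hq).symm
  subst hpq
  letI := EGA4Lib.residueAlgebra (A := A) q.asIdeal
  obtain ⟨f⟩ := EGA4Lib.nonempty_fiber_baseChange (A := A) (B := B) (AlgEquiv.refl (R := A') (A₁ := A' ⊗[A] B)) q.asIdeal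
  exact isGeomNormal_of_baseChange _ q.asIdeal.ResidueField _
    (EGA4Lib.isGeomNormal_congr q.asIdeal.ResidueField _ f (h.2 _))

theorem isRegularHom_of_tensor [IsNoetherianRing B] (h : CAlg.IsRegularHom A' (A' ⊗[A] B)) :
    CAlg.IsRegularHom A B := by
  haveI := h.1
  refine ⟨Module.Flat.of_flat_tensorProduct A B A', fun p _ => ?_⟩
  haveI hN : IsNoetherianRing (p.Fiber B) :=
    EGA4Lib.forall_isCohenMacaulayRing_fiber_iff.isNoetherianRing_fiber A p
  obtain ⟨q, hq⟩ := PrimeSpectrum.comap_surjective_of_faithfullyFlat (A := A) (B := A') ⟨p, ‹_›⟩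
  have hpq : p = q.asIdeal.comap (algebraMap A A') := (congrArg PrimeSpectrum.asIdeal hq).symm
  subst hpq
  letI := EGA4Lib.residueAlgebra (A := A) q.asIdeal
  obtain ⟨f⟩ := EGA4Lib.nonempty_fiber_baseChange (A := A) (B := B) (AlgEquiv.refl (R := A') (A₁ := A' ⊗[A] B)) q.asIdeal
  exact ⟨hN, isGeometricallyRegular_of_baseChange _ q.asIdeal.ResidueField _
    (EGA4Lib.isGeometricallyRegular_congr q.asIdeal.ResidueField _ f (h.2 _).2)⟩

omit [Module.FaithfullyFlat A A'] in
theorem isNoetherianRing_tensor [IsNoetherianRing B] [IsNoetherianRing A']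
    (hft : Algebra.FiniteType A B ∨ Algebra.FiniteType A A') : IsNoetherianRing (A' ⊗[A] B) := by
  rcases hft with hft | hft
  · exact Algebra.FiniteType.isNoetherianRing A' (A' ⊗[A] B)
  · haveI : IsNoetherianRing (B ⊗[A] A') := Algebra.FiniteType.isNoetherianRing B (B ⊗[A] A')
    exact isNoetherianRing_of_ringEquiv _ (Algebra.TensorProduct.comm A B A').toRingEquiv

end Groth.Agent.GeomFieldLib
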