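import Groth.Agent.GeomFieldLib.NormalRing
import Mathlib.RingTheory.Trace.Basic
import Mathlib.RingTheory.Etale.Field
import Mathlib.RingTheory.Unramified.Field

/-!
# Normality under finite separable field extensions
-/

set_option autoImplicit false
set_option linter.style.haveILetI false

universe u

open TensorProduct

namespace Groth.Agent.GeomFieldLib

variable (F L : Type u) [Field F] [Field L] [Algebra F L] [FiniteDimensional F L] [Algebra.IsSeparable F L]

theorem exists_eq_of_isIntegral_tensor (D : Type u) [CommRing D] [IsDomain D] [IsIntegrallyClosed D]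
    [Algebra F D] (Q : Type u) [Field Q] [Algebra D Q] [IsFractionRing D Q] [Algebra F Q] [IsScalarTower F D Q]
    (x : Q ⊗[F] L) (hx : IsIntegral D x) :
    ∃ y : D ⊗[F] L, Algebra.TensorProduct.map (IsScalarTower.toAlgHom F D Q) (AlgHom.id F L) y = x := by
  classical
  let Ω := AlgebraicClosure Q
  let tr : Q ⊗[F] L →ₗ[Q] Q :=
    (TensorProduct.AlgebraTensorModule.rid F Q Q).toLinearMap.comp
      (TensorProduct.AlgebraTensorModule.lTensor Q Q (Algebra.trace F L))
  have htr : ∀ q l, tr (q ⊗ₜ l) = Algebra.trace F L l • q := fun q l => by simp [tr]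
  have hint : ∀ y : Q ⊗[F] L, IsIntegral D y → ∃ d : D, algebraMap D Q d = tr y := fun y hy => by
    let φ : (L →ₐ[F] Ω) → (Q ⊗[F] L →ₐ[Q] Ω) := fun σ =>
      Algebra.TensorProduct.lift (Algebra.ofId Q Ω) σ fun _ _ => mul_comm _ _
    have hsum : ∀ z : Q ⊗[F] L, algebraMap Q Ω (tr z) = ∑ σ : L →ₐ[F] Ω, φ σ z := fun z => by
      induction z using TensorProduct.induction_on with
      | zero => simp
      | add a b ha hb => simp only [map_add, ha, hb, Finset.sum_add_distrib]
      | tmul q l =>
        rw [htr, Algebra.smul_def, map_mul, ← IsScalarTower.algebraMap_apply, trace_eq_sum_embeddings Ω,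
          Finset.sum_mul]
        exact Finset.sum_congr rfl fun σ _ => (mul_comm (σ l) (algebraMap Q Ω q)).trans
          (Algebra.TensorProduct.lift_tmul (Algebra.ofId Q Ω) σ (fun _ _ => mul_comm _ _) q l).symm
    have h1 : IsIntegral D (algebraMap Q Ω (tr y)) := by
      rw [hsum]
      exact IsIntegral.sum _ fun σ _ => hy.map ((φ σ).restrictScalars D)
    exact IsIntegrallyClosed.algebraMap_eq_of_integral
      ((isIntegral_algebraMap_iff (algebraMap Q Ω).injective).1 h1)
  let b := Module.finBasis F L
  let B := Algebra.traceForm F L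
  have hB : B.Nondegenerate := traceForm_nondegenerate F L
  let d := B.dualBasis hB b
  have hrep : ∀ l : L, ∑ i, B l (b i) • d i = l := fun l => by
    conv_rhs => rw [← d.sum_repr l]
    exact Finset.sum_congr rfl fun i _ => by rw [LinearMap.BilinForm.dualBasis_repr_apply]
  have hexp : ∀ z : Q ⊗[F] L, ∑ i, tr (z * ((1 : Q) ⊗ₜ b i)) • ((1 : Q) ⊗ₜ[F] d i) = z := fun z => by
    induction z using TensorProduct.induction_on with
    | zero => simp
    | add a c ha hc => simp only [add_mul, map_add, add_smul, Finset.sum_add_distrib, ha, hc]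
    | tmul q l =>
      conv_rhs => rw [← hrep l, TensorProduct.tmul_sum]
      refine Finset.sum_congr rfl fun i _ => ?_
      rw [Algebra.TensorProduct.tmul_mul_tmul, mul_one, htr, TensorProduct.smul_tmul', smul_eq_mul, mul_one,
        TensorProduct.smul_tmul]
      rfl
  have hcoef : ∀ i, ∃ c : D, algebraMap D Q c = tr (x * ((1 : Q) ⊗ₜ b i)) := fun i => by
    refine hint _ (hx.mul ?_)
    have h1 : IsIntegral F ((1 : Q) ⊗ₜ[F] b i) :=
      (Algebra.IsIntegral.isIntegral (R := F) (b i)).map
        (Algebra.TensorProduct.includeRight : L →ₐ[F] Q ⊗[F] L)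
    exact h1.tower_top
  choose c hc using hcoef
  refine ⟨∑ i, c i ⊗ₜ d i, ?_⟩
  rw [map_sum]
  conv_rhs => rw [← hexp x]
  refine Finset.sum_congr rfl fun i _ => ?_
  rw [← hc i, Algebra.TensorProduct.map_tmul, TensorProduct.smul_tmul', smul_eq_mul, mul_one]
  rfl

theorem isNormalRing_tensor_separable_of_isDomain (D : Type u) [CommRing D] [IsDomain D] [IsIntegrallyClosed D]
    [Algebra F D] : EGA4.IsNormalRing (D ⊗[F] L) := by
  let Q := FractionRing D
  let f := Algebra.TensorProduct.map (IsScalarTower.toAlgHom F D Q) (AlgHom.id F L)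
  letI : Algebra (D ⊗[F] L) (Q ⊗[F] L) := f.toRingHom.toAlgebra
  haveI : IsScalarTower D (D ⊗[F] L) (Q ⊗[F] L) :=
    IsScalarTower.of_algebraMap_eq (R := D) (S := D ⊗[F] L) (A := Q ⊗[F] L) fun a => by
      rfl
  haveI := IsLocalization.tensorProduct_tensorProduct F L (nonZeroDivisors D) Q (by
    ext l; simp [RingHom.algebraMap_toAlgebra, f])
  have hinj : Function.Injective (algebraMap (D ⊗[F] L) (Q ⊗[F] L)) :=
    Module.Flat.rTensor_preserves_injective_linearMap (M := L) (IsScalarTower.toAlgHom F D Q).toLinearMap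
      (IsFractionRing.injective D Q)
  haveI : IsArtinianRing (Q ⊗[F] L) := IsArtinianRing.of_finite Q _
  haveI : Algebra.FormallyUnramified Q (Q ⊗[F] L) :=
    haveI : Algebra.FormallyUnramified F L := Algebra.FormallyUnramified.of_isSeparable F L
    inferInstance
  haveI : IsReduced (Q ⊗[F] L) := Algebra.FormallyUnramified.isReduced_of_field Q _
  refine isNormalRing_of_isIntegrallyClosedIn (Algebra.algebraMapSubmonoid (D ⊗[F] L) (nonZeroDivisors D)) hinj
    (isNormalRing_of_isArtinianRing _) (minimalPrimes.finite_of_isNoetherianRing _) fun x hx => ?_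
  haveI : Algebra.IsIntegral D (D ⊗[F] L) := inferInstance
  exact exists_eq_of_isIntegral_tensor F L D Q x (isIntegral_trans x hx)

/-- Normality is stable under finite separable extensions of the base field. -/
theorem isNormalRing_tensor_separable (R : Type u) [CommRing R] [Algebra F R] (h : EGA4.IsNormalRing R) :
    EGA4.IsNormalRing (L ⊗[F] R) := by
  refine isNormalRing_of_forall_exists_localization fun P _ => ?_
  let q := P.comap (Algebra.TensorProduct.includeRight : R →ₐ[F] L ⊗[F] R)
  let D := Localization.AtPrime q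
  haveI := (h q).1
  haveI := (h q).2
  letI : Algebra (L ⊗[F] R) (L ⊗[F] D) :=
    (Algebra.TensorProduct.map (AlgHom.id F L) (IsScalarTower.toAlgHom F R D)).toRingHom.toAlgebra
  haveI : IsScalarTower L (L ⊗[F] R) (L ⊗[F] D) :=
    IsScalarTower.of_algebraMap_eq (R := L) (S := L ⊗[F] R) (A := L ⊗[F] D) fun x => by
      simp [RingHom.algebraMap_toAlgebra]
  haveI := IsLocalization.tensorProduct_tensorProduct_right F L q.primeCompl D (by
    ext a; simp [RingHom.algebraMap_toAlgebra])
  refine ⟨q.primeCompl.map (Algebra.TensorProduct.includeRight : R →ₐ[F] L ⊗[F] R), L ⊗[F] D,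
    inferInstance, inferInstance, inferInstance, ?_,
    EGA4Lib.isNormalRing_of_ringEquiv (Algebra.TensorProduct.comm F D L).toRingEquiv
      (isNormalRing_tensor_separable_of_isDomain F L D)⟩
  rw [Set.disjoint_left]
  rintro _ ⟨c, hc, rfl⟩ hcP
  exact hc hcP

end Groth.Agent.GeomFieldLib
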