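import Groth.Agent.GeomFieldLib.PiField
import Groth.Agent.GeomFieldLib.SepExt
import Groth.Agent.EGA4Lib.FibreComp
import Groth.Agent.EGA4Lib.FibreLoc
import Groth.Agent.CycCover.Regular
import Mathlib.RingTheory.EssentialFiniteness
import Mathlib.RingTheory.Adjoin.FGBaseChange

/-!
# Geometric normality and regularity and field extensions (EGA IV 6.7.4, 6.7.7, 6.14)

It is enough to test finite purely inseparable extensions; the conclusion holds for all extensions.
-/

set_option autoImplicit false
set_option linter.style.haveILetI false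

universe u

open TensorProduct IntermediateField

namespace Groth.Agent.GeomFieldLib

theorem nonempty_tower (k k' F L A : Type u) [Field k] [Field k'] [Field F] [Field L] [CommRing A] [Algebra k A]
    [Algebra k k'] [Algebra k' F] [Algebra F L] [Algebra k' L] [IsScalarTower k' F L] [Algebra k L]
    [IsScalarTower k k' L] : Nonempty (L ⊗[F] (F ⊗[k'] (k' ⊗[k] A)) ≃+* L ⊗[k] A) :=
  ⟨(Algebra.TensorProduct.cancelBaseChange k' F L L (k' ⊗[k] A)).toRingEquiv.trans
    (Algebra.TensorProduct.cancelBaseChange k k' L L A).toRingEquiv⟩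

/-- The three steps, for abstract fields. -/
theorem field_steps (P : ∀ (R : Type u) [CommRing R], Prop)
    (hiso : ∀ (R R' : Type u) [CommRing R] [CommRing R'], (R ≃+* R') → P R → P R')
    (hfrac : ∀ (F : Type u) [Field F] (R : Type u) [CommRing R] [Algebra F R] (σ : Type u) [Finite σ],
      P R → P (FractionRing (MvPolynomial σ F) ⊗[F] R))
    (hsep : ∀ (F L : Type u) [Field F] [Field L] [Algebra F L] [FiniteDimensional F L] [Algebra.IsSeparable F L]
      (R : Type u) [CommRing R] [Algebra F R], P R → P (L ⊗[F] R))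
    (k k' F L K A : Type u) [Field k] [Field k'] [Field F] [Field L] [Field K] [CommRing A] [Algebra k A]
    [Algebra k k'] [Algebra k' F] [Algebra F L] [Algebra k' L] [IsScalarTower k' F L] [Algebra k L]
    [IsScalarTower k k' L] [Algebra k K] [Algebra K L] [IsScalarTower k K L]
    [FiniteDimensional F L] [Algebra.IsSeparable F L]
    (σ : Type u) [Finite σ] (e : FractionRing (MvPolynomial σ k') ≃ₐ[k'] F)
    (h : P (k' ⊗[k] A)) (hdesc : P (L ⊗[K] (K ⊗[k] A)) → P (K ⊗[k] A)) : P (K ⊗[k] A) := by
  have h2 : P (F ⊗[k'] (k' ⊗[k] A)) := hiso (FractionRing (MvPolynomial σ k') ⊗[k'] (k' ⊗[k] A)) _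
    (Algebra.TensorProduct.congr e (AlgEquiv.refl (R := k') (A₁ := k' ⊗[k] A))).toRingEquiv
    (hfrac k' _ σ h)
  obtain ⟨f⟩ := nonempty_tower k k' F L A
  have h4 : P (L ⊗[k] A) := hiso _ _ f (hsep F L _ h2)
  exact hdesc (hiso _ _ (Algebra.TensorProduct.cancelBaseChange k K L L A).symm.toRingEquiv h4)

/-- Reduction of an arbitrary finitely generated extension to radicial, purely transcendental and
separable steps. -/
theorem field_reduction (P : ∀ (R : Type u) [CommRing R], Prop)
    (hiso : ∀ (R R' : Type u) [CommRing R] [CommRing R'], (R ≃+* R') → P R → P R')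
    (hfrac : ∀ (F : Type u) [Field F] (R : Type u) [CommRing R] [Algebra F R] (σ : Type u) [Finite σ],
      P R → P (FractionRing (MvPolynomial σ F) ⊗[F] R))
    (hsep : ∀ (F L : Type u) [Field F] [Field L] [Algebra F L] [FiniteDimensional F L] [Algebra.IsSeparable F L]
      (R : Type u) [CommRing R] [Algebra F R], P R → P (L ⊗[F] R))
    (k K A : Type u) [Field k] [Field K] [Algebra k K] [Algebra.EssFiniteType k K] [CommRing A] [Algebra k A]
    (hpi : ∀ (k' : Type u) [Field k'] [Algebra k k'], Module.Finite k k' → IsPurelyInseparable k k' →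
      P (k' ⊗[k] A))
    (hdesc : ∀ (L : Type u) [Field L] [Algebra K L], P (L ⊗[K] (K ⊗[k] A)) → P (K ⊗[k] A)) :
    P (K ⊗[k] A) := by
  obtain ⟨k', t, g, hfd, hpi', hind, hg, hK⟩ := exists_pi_separable k K
  let Ω := AlgebraicClosure K
  let F := adjoin k' (t : Set Ω)
  let L := adjoin F (g : Set Ω)
  haveI : FiniteDimensional F L := finiteDimensional_adjoin fun x hx => (hg x hx).isIntegral
  haveI : Algebra.IsSeparable F L := (isSeparable_adjoin_iff_isSeparable F Ω).2 fun x hx => hg x hx
  let ι : K →+* L := (algebraMap K Ω).codRestrict L hK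
  letI : Algebra K L := ι.toAlgebra
  letI : Algebra k' L := ((algebraMap F L).comp (algebraMap k' F)).toAlgebra
  haveI : IsScalarTower k' F L := IsScalarTower.of_algebraMap_eq fun _ => rfl
  letI : Algebra k L := ((algebraMap k' L).comp (algebraMap k k')).toAlgebra
  haveI : IsScalarTower k k' L := IsScalarTower.of_algebraMap_eq fun _ => rfl
  haveI : IsScalarTower k K L := IsScalarTower.of_algebraMap_eq fun c => Subtype.ext (by
    show algebraMap k Ω c = algebraMap K Ω (algebraMap k K c)
    exact IsScalarTower.algebraMap_apply k K Ω c)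
  let e : FractionRing (MvPolynomial (t : Set Ω) k') ≃ₐ[k'] F :=
    hind.aevalEquivField.trans (IntermediateField.equivOfEq (congrArg (adjoin k') Subtype.range_coe))
  exact field_steps P hiso hfrac hsep k k' F L K A _ e (hpi k' hfd hpi') (hdesc L)

theorem isNormalRing_frac_tensor (F : Type u) [Field F] (R : Type u) [CommRing R] [Algebra F R] (σ : Type u)
    [Finite σ] (h : EGA4.IsNormalRing R) : EGA4.IsNormalRing (FractionRing (MvPolynomial σ F) ⊗[F] R) := by
  let S := MvPolynomial σ F
  let Q := FractionRing S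
  letI : Algebra (S ⊗[F] R) (Q ⊗[F] R) :=
    (Algebra.TensorProduct.map (IsScalarTower.toAlgHom F S Q) (AlgHom.id F R)).toRingHom.toAlgebra
  haveI : IsScalarTower S (S ⊗[F] R) (Q ⊗[F] R) :=
    IsScalarTower.of_algebraMap_eq (R := S) (S := S ⊗[F] R) (A := Q ⊗[F] R) fun a => rfl
  haveI := IsLocalization.tensorProduct_tensorProduct F R (nonZeroDivisors S) Q (by
    ext l; simp [RingHom.algebraMap_toAlgebra])
  exact EGA4Lib.isNormalRing_of_isLocalization (Algebra.algebraMapSubmonoid (S ⊗[F] R) (nonZeroDivisors S))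
    (EGA4Lib.isNormalRing_of_ringEquiv
      ((Algebra.TensorProduct.comm F S R).toRingEquiv.trans (MvPolynomial.algebraTensorAlgEquiv F R).toRingEquiv).symm
      (isNormalRing_mvPolynomial h σ))

theorem isRegularRing_of_isLocalization {R R' : Type u} [CommRing R] [CommRing R'] [Algebra R R']
    (M : Submonoid R) [IsLocalization M R'] [IsRegularRing R] : IsRegularRing R' := by
  haveI : IsNoetherianRing R' := IsLocalization.isNoetherianRing M R' inferInstance
  rw [isRegularRing_iff]
  intro q _
  haveI : IsLocalization.AtPrime (Localization.AtPrime q) (q.comap (algebraMap R R')) :=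
    IsLocalization.isLocalization_isLocalization_atPrime_isLocalization (M := M) (Localization.AtPrime q) q
  exact IsRegularLocalRing.of_ringEquiv (R := Localization.AtPrime (q.comap (algebraMap R R')))
    (IsLocalization.algEquiv (q.comap (algebraMap R R')).primeCompl
      (Localization.AtPrime (q.comap (algebraMap R R'))) (Localization.AtPrime q)).toRingEquiv

theorem isRegularRing_of_faithfullyFlat (R S : Type u) [CommRing R] [CommRing S] [Algebra R S]
    [IsNoetherianRing R] [Module.FaithfullyFlat R S] [IsRegularRing S] : IsRegularRing R := by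
  rw [isRegularRing_iff]
  intro p _
  obtain ⟨q, hq⟩ := PrimeSpectrum.comap_surjective_of_faithfullyFlat (A := R) (B := S) ⟨p, ‹_›⟩
  have hpq : p = q.asIdeal.comap (algebraMap R S) := (congrArg PrimeSpectrum.asIdeal hq).symm
  subst hpq
  letI : Algebra (Localization.AtPrime (q.asIdeal.comap (algebraMap R S))) (Localization.AtPrime q.asIdeal) :=
    (Localization.localRingHom _ q.asIdeal (algebraMap R S) rfl).toAlgebra
  haveI : IsLocalHom (algebraMap (Localization.AtPrime (q.asIdeal.comap (algebraMap R S)))
      (Localization.AtPrime q.asIdeal)) := Localization.isLocalHom_localRingHom _ _ _ rfl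
  haveI : Module.Flat (Localization.AtPrime (q.asIdeal.comap (algebraMap R S)))
      (Localization.AtPrime q.asIdeal) :=
    RingHom.flat_algebraMap_iff.1 (RingHom.Flat.localRingHom
      (RingHom.flat_algebraMap_iff.2 inferInstance) q.asIdeal _ rfl)
  exact RegLoc.Homological.isRegularLocalRing_of_flat (Localization.AtPrime q.asIdeal)

theorem isRegularRing_frac_tensor (F : Type u) [Field F] (R : Type u) [CommRing R] [Algebra F R] (σ : Type u)
    [Finite σ] [IsRegularRing R] : IsRegularRing (FractionRing (MvPolynomial σ F) ⊗[F] R) := by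
  let S := MvPolynomial σ F
  let Q := FractionRing S
  letI : Algebra (S ⊗[F] R) (Q ⊗[F] R) :=
    (Algebra.TensorProduct.map (IsScalarTower.toAlgHom F S Q) (AlgHom.id F R)).toRingHom.toAlgebra
  haveI : IsScalarTower S (S ⊗[F] R) (Q ⊗[F] R) :=
    IsScalarTower.of_algebraMap_eq (R := S) (S := S ⊗[F] R) (A := Q ⊗[F] R) fun a => rfl
  haveI := IsLocalization.tensorProduct_tensorProduct F R (nonZeroDivisors S) Q (by
    ext l; simp [RingHom.algebraMap_toAlgebra])
  haveI : IsRegularRing (S ⊗[F] R) := IsRegularRing.of_ringEquiv (R := MvPolynomial σ R)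
    ((Algebra.TensorProduct.comm F S R).toRingEquiv.trans (MvPolynomial.algebraTensorAlgEquiv F R).toRingEquiv).symm
  exact isRegularRing_of_isLocalization (Algebra.algebraMapSubmonoid (S ⊗[F] R) (nonZeroDivisors S))

theorem isRegularRing_tensor_separable (F L : Type u) [Field F] [Field L] [Algebra F L] [FiniteDimensional F L]
    [Algebra.IsSeparable F L] (R : Type u) [CommRing R] [Algebra F R] [IsRegularRing R] :
    IsRegularRing (L ⊗[F] R) := by
  haveI : Algebra.FormallyEtale F L := Algebra.FormallyEtale.of_isSeparable F L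
  haveI : Algebra.Etale F L := ⟨inferInstance, Algebra.FinitePresentation.of_finiteType.1 inferInstance⟩
  haveI : IsRegularRing (R ⊗[F] L) := CycCover.isRegularRing_of_etale (R := R)
  exact IsRegularRing.of_ringEquiv (R := R ⊗[F] L) (Algebra.TensorProduct.comm F R L).toRingEquiv

/-- Enlarging the field is flat. -/
theorem flat_map_field (k E K A : Type u) [Field k] [Field E] [Field K] [CommRing A] [Algebra k A] [Algebra k E]
    [Algebra E K] [Algebra k K] [IsScalarTower k E K] :
    ((Algebra.TensorProduct.map (IsScalarTower.toAlgHom k E K) (AlgHom.id k A)).toRingHom :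
      E ⊗[k] A →+* K ⊗[k] A).Flat := by
  let e : (E ⊗[k] A) ⊗[E] K ≃+* K ⊗[k] A :=
    (Algebra.TensorProduct.comm E (E ⊗[k] A) K).toRingEquiv.trans
      (Algebra.TensorProduct.cancelBaseChange k E K K A).toRingEquiv
  have he : (Algebra.TensorProduct.map (IsScalarTower.toAlgHom k E K) (AlgHom.id k A)).toRingHom =
      e.toRingHom.comp (algebraMap (E ⊗[k] A) ((E ⊗[k] A) ⊗[E] K)) := by
    refine RingHom.ext fun x => ?_
    induction x using TensorProduct.induction_on with
    | zero => simp
    | add a b ha hb => rw [map_add, map_add, ha, hb]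
    | tmul l a => simp [e, Algebra.smul_def]
  rw [he]
  exact (RingHom.flat_algebraMap_iff.2 inferInstance).comp (RingHom.Flat.of_bijective e.bijective)

/-- A prime generated from a regular ring below is a regular point. -/
theorem isRegularLocalRing_of_map_comap_eq {R₀ R : Type u} [CommRing R₀] [CommRing R] [IsRegularRing R₀]
    [IsNoetherianRing R] (φ : R₀ →+* R) (hφ : φ.Flat) (Q : Ideal R) [Q.IsPrime]
    (hQ : (Q.comap φ).map φ = Q) : IsRegularLocalRing (Localization.AtPrime Q) := by
  letI : Algebra R₀ R := φ.toAlgebra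
  haveI : Module.Flat R₀ R := hφ
  haveI : IsRegularLocalRing (Localization.AtPrime (Q.comap (algebraMap R₀ R))) :=
    IsRegularRing.isRegularLocalRing_localization _
  haveI : IsRegularLocalRing (EGA4.FibLocRing R₀ R Q) := by
    have hJ : (Q.comap (algebraMap R₀ R)).map (algebraMap R₀ (Localization.AtPrime Q)) =
        IsLocalRing.maximalIdeal (Localization.AtPrime Q) := by
      rw [IsScalarTower.algebraMap_eq R₀ R (Localization.AtPrime Q), ← Ideal.map_map, RingHom.algebraMap_toAlgebra,
        hQ, Localization.AtPrime.map_eq_maximalIdeal]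
    letI := Ideal.Quotient.field (IsLocalRing.maximalIdeal (Localization.AtPrime Q))
    exact IsRegularLocalRing.of_ringEquiv (R := Localization.AtPrime Q ⧸ IsLocalRing.maximalIdeal (Localization.AtPrime Q))
      (Ideal.quotEquivOfEq hJ).symm
  exact EGA4Lib.isRegularLocalRing_of_regular_fibre (A := R₀) Q

variable (k A : Type u) [Field k] [CommRing A] [Algebra k A]

/-- EGA IV 6.7.4 for normality, no Noetherian hypothesis, any extension. -/
theorem isNormalRing_tensor_of_pi
    (h : ∀ (k' : Type u) [Field k'] [Algebra k k'], Module.Finite k k' → IsPurelyInseparable k k' →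
      EGA4.IsNormalRing (k' ⊗[k] A))
    (K : Type u) [Field K] [Algebra k K] : EGA4.IsNormalRing (K ⊗[k] A) := by
  classical
  have hfg : ∀ (K : Type u) [Field K] [Algebra k K] [Algebra.EssFiniteType k K],
      EGA4.IsNormalRing (K ⊗[k] A) := fun K _ _ _ =>
    field_reduction (fun R _ => EGA4.IsNormalRing R) (fun R R' _ _ e hR => EGA4Lib.isNormalRing_of_ringEquiv e hR)
      (fun F _ R _ _ σ _ hR => isNormalRing_frac_tensor F R σ hR)
      (fun F L _ _ _ _ _ R _ _ hR => isNormalRing_tensor_separable F L R hR) k K A h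
      fun L _ _ hL => EGA4Lib.isNormalRing_of_faithfullyFlat (K ⊗[k] A) ((K ⊗[k] A) ⊗[K] L)
        (EGA4Lib.isNormalRing_of_ringEquiv (Algebra.TensorProduct.comm K L (K ⊗[k] A)).toRingEquiv hL)
  refine isNormalRing_of_forall_exists_map fun s => ?_
  have hmem : ∀ x : K ⊗[k] A, ∃ c : Finset K, ∀ (E : IntermediateField k K), (c : Set K) ⊆ E →
      ∃ y : E ⊗[k] A, Algebra.TensorProduct.map E.val (AlgHom.id k A) y = x := fun x => by
    obtain ⟨S, rfl⟩ := TensorProduct.exists_finset x
    refine ⟨S.image Prod.fst, fun E hE => ⟨∑ i ∈ S.attach,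
      (⟨i.1.1, hE (Finset.mem_image_of_mem _ i.2)⟩ : E) ⊗ₜ i.1.2, ?_⟩⟩
    rw [map_sum, ← Finset.sum_attach S]
    rfl
  choose c hc using hmem
  let E := adjoin k ((s.biUnion c : Finset K) : Set K)
  haveI : Algebra.EssFiniteType k E := essFiniteType_iff.2 ⟨_, rfl⟩
  refine ⟨E ⊗[k] A, inferInstance, (Algebra.TensorProduct.map E.val (AlgHom.id k A)).toRingHom,
    Module.Flat.rTensor_preserves_injective_linearMap (M := A) E.val.toLinearMap E.val.injective,
    hfg E, fun x hx => hc x E ((Finset.coe_subset.2 (Finset.subset_biUnion_of_mem c hx)).trans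
      (subset_adjoin k _))⟩

theorem isNormalRing_tensor_of_isGeomNormal (h : EGA4.IsGeomNormal k A) (K : Type u) [Field K] [Algebra k K] :
    EGA4.IsNormalRing (K ⊗[k] A) :=
  isNormalRing_tensor_of_pi k A (fun k' _ _ hf _ => h k' hf) K

/-- EGA IV 6.7.4 for regularity, finitely generated extensions. -/
theorem isRegularRing_tensor_of_pi_fg [IsNoetherianRing A]
    (h : ∀ (k' : Type u) [Field k'] [Algebra k k'], Module.Finite k k' → IsPurelyInseparable k k' →
      IsRegularRing (k' ⊗[k] A))
    (K : Type u) [Field K] [Algebra k K] [Algebra.EssFiniteType k K] : IsRegularRing (K ⊗[k] A) := by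
  haveI : IsNoetherianRing (A ⊗[k] K) := Algebra.EssFiniteType.isNoetherianRing A (A ⊗[k] K)
  haveI : IsNoetherianRing (K ⊗[k] A) :=
    isNoetherianRing_of_ringEquiv _ (Algebra.TensorProduct.comm k A K).toRingEquiv
  exact field_reduction (fun R _ => IsRegularRing R) (fun R R' _ _ e hR => IsRegularRing.of_ringEquiv (R := R) e)
    (fun F _ R _ _ σ _ hR => isRegularRing_frac_tensor F R σ)
    (fun F L _ _ _ _ _ R _ _ hR => isRegularRing_tensor_separable F L R) k K A h
    fun L _ _ hL => by
      haveI := hL
      haveI : IsRegularRing ((K ⊗[k] A) ⊗[K] L) :=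
        IsRegularRing.of_ringEquiv (R := L ⊗[K] (K ⊗[k] A)) (Algebra.TensorProduct.comm K L (K ⊗[k] A)).toRingEquiv
      exact isRegularRing_of_faithfullyFlat (K ⊗[k] A) ((K ⊗[k] A) ⊗[K] L)

/-- EGA IV 6.7.4 for regularity, any extension with Noetherian tensor product. -/
theorem isRegularRing_tensor_of_pi [IsNoetherianRing A]
    (h : ∀ (k' : Type u) [Field k'] [Algebra k k'], Module.Finite k k' → IsPurelyInseparable k k' →
      IsRegularRing (k' ⊗[k] A))
    (K : Type u) [Field K] [Algebra k K] [IsNoetherianRing (K ⊗[k] A)] : IsRegularRing (K ⊗[k] A) := by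
  classical
  rw [isRegularRing_iff]
  intro Q _
  obtain ⟨G, hG⟩ := IsNoetherian.noetherian Q
  have hmem : ∀ x : K ⊗[k] A, ∃ c : Finset K, ∀ (E : IntermediateField k K), (c : Set K) ⊆ E →
      ∃ y : E ⊗[k] A, Algebra.TensorProduct.map E.val (AlgHom.id k A) y = x := fun x => by
    obtain ⟨S, rfl⟩ := TensorProduct.exists_finset x
    refine ⟨S.image Prod.fst, fun E hE => ⟨∑ i ∈ S.attach,
      (⟨i.1.1, hE (Finset.mem_image_of_mem _ i.2)⟩ : E) ⊗ₜ i.1.2, ?_⟩⟩
    rw [map_sum, ← Finset.sum_attach S]
    rfl
  choose c hc using hmem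
  let E := adjoin k ((G.biUnion c : Finset K) : Set K)
  haveI : Algebra.EssFiniteType k E := essFiniteType_iff.2 ⟨_, rfl⟩
  haveI := isRegularRing_tensor_of_pi_fg k A h E
  refine isRegularLocalRing_of_map_comap_eq
    (Algebra.TensorProduct.map (IsScalarTower.toAlgHom k E K) (AlgHom.id k A)).toRingHom
    (flat_map_field k E K A) Q ?_
  refine le_antisymm Ideal.map_comap_le ?_
  conv_lhs => rw [← hG]
  rw [Submodule.span_le]
  intro x hx
  obtain ⟨y, hy⟩ := hc x E ((Finset.coe_subset.2 (Finset.subset_biUnion_of_mem c hx)).trans (subset_adjoin k _))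
  have hxQ : x ∈ Q := hG ▸ Submodule.subset_span hx
  subst hy
  exact Ideal.mem_map_of_mem _ hxQ

end Groth.Agent.GeomFieldLib
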