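import Groth.Agent.GeomFieldLib.Corollaries
import Mathlib.RingTheory.Valuation.LocalSubring
import Mathlib.RingTheory.Polynomial.ScaleRoots
import Mathlib.RingTheory.TensorProduct.Free

/-!
# Tensor product of a geometrically normal and a normal algebra (EGA IV 6.14.1)
-/

set_option autoImplicit false
set_option linter.style.haveILetI false

universe u

open TensorProduct

namespace Groth.Agent.GeomFieldLib

variable {k : Type u} [Field k] {A : Type u} [CommRing A] [Algebra k A] {L : Type u} [Field L] [Algebra k L]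

/-- The coordinates of an element integral over `V ⊗ A` lie in the valuation ring `V`. -/
theorem coord_mem_of_isIntegral (V : ValuationSubring L) (V' : Subalgebra k L) (hV : V'.toSubring = V.toSubring)
    (hred : ∀ (K : Type u) [Field K] [Algebra k K], IsReduced (K ⊗[k] A))
    {ι : Type*} (b : Module.Basis ι k A) (x : L ⊗[k] A)
    (hx : (Algebra.TensorProduct.map V'.val (AlgHom.id k A)).toRingHom.IsIntegralElem x) (i : ι) :
    (b.baseChange L).repr x i ∈ V := by
  classical
  have hmem : ∀ z, z ∈ V' ↔ z ∈ V := fun z => by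
    rw [← Subalgebra.mem_toSubring, hV]
    exact Iff.rfl
  by_contra hi
  let c := (b.baseChange L).repr x
  have hic : i ∈ c.support := Finsupp.mem_support_iff.2 fun h => hi (h.symm ▸ zero_mem V)
  obtain ⟨j, hj, hmax⟩ := c.support.exists_max_image (fun t => V.valuation (c t)) ⟨i, hic⟩
  have hcj0 : c j ≠ 0 := Finsupp.mem_support_iff.1 hj
  have hcjV : c j ∉ V := fun h => hi ((V.valuation_le_one_iff _).1
    ((hmax i hic).trans ((V.valuation_le_one_iff _).2 h)))
  have hπV : (c j)⁻¹ ∈ V' := (hmem _).2 ((V.mem_or_inv_mem (c j)).resolve_left hcjV)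
  let π : V' := ⟨(c j)⁻¹, hπV⟩
  have hπu : ¬IsUnit π := fun hu => hcjV <| by
    obtain ⟨w, hw⟩ := hu.exists_left_inv
    have h1 : (w : L) * (c j)⁻¹ = 1 := congrArg Subtype.val hw
    rw [show c j = w from (eq_of_mul_inv_eq_one h1).symm]
    exact (hmem _).1 w.2
  obtain ⟨m, hm, hπm⟩ := exists_max_ideal_of_mem_nonunits hπu
  letI := Ideal.Quotient.field m
  have hyV : ∀ t ∈ c.support, (c j)⁻¹ * c t ∈ V' := fun t ht => by
    rw [hmem, ← V.valuation_le_one_iff, map_mul, map_inv₀]
    calc (V.valuation (c j))⁻¹ * V.valuation (c t) ≤ (V.valuation (c j))⁻¹ * V.valuation (c j) :=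
          mul_le_mul_right (hmax t ht) _
      _ = 1 := inv_mul_cancel₀ ((Valuation.ne_zero_iff _).2 hcj0)
  let φ := Algebra.TensorProduct.map V'.val (AlgHom.id k A)
  have hφinj : Function.Injective φ :=
    Module.Flat.rTensor_preserves_injective_linearMap (M := A) V'.val.toLinearMap Subtype.val_injective
  let y : V' ⊗[k] A := ∑ t ∈ c.support.attach, (⟨_, hyV t.1 t.2⟩ : V') ⊗ₜ b t.1
  have hy : φ y = φ (π ⊗ₜ 1) * x := by
    conv_rhs => rw [← (b.baseChange L).linearCombination_repr x, Finsupp.linearCombination_apply,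
      Finsupp.sum, Finset.mul_sum, ← Finset.sum_attach]
    rw [map_sum]
    refine Finset.sum_congr rfl fun t _ => ?_
    rw [Algebra.TensorProduct.map_tmul, Algebra.TensorProduct.map_tmul, Module.Basis.baseChange_apply,
      TensorProduct.smul_tmul', Algebra.TensorProduct.tmul_mul_tmul, smul_eq_mul, mul_one]
    show ((c j)⁻¹ * c t.1) ⊗ₜ b t.1 = ((c j)⁻¹ * c t.1) ⊗ₜ ((1 : A) * b t.1)
    rw [one_mul]
  obtain ⟨p, hp, hpx⟩ := hx
  have h0 : (p.scaleRoots (π ⊗ₜ 1)).eval y = 0 := hφinj <| by
    have h1 := Polynomial.scaleRoots_eval₂_eq_zero φ.toRingHom (p := p) (r := x) (s := π ⊗ₜ 1) hpx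
    rw [map_zero, ← Polynomial.eval₂_id (x := y)]
    show φ.toRingHom _ = 0
    rw [Polynomial.hom_eval₂, RingHom.comp_id]
    show Polynomial.eval₂ φ.toRingHom (φ y) _ = 0
    rw [hy]
    exact h1
  let ρ : V' ⊗[k] A →ₐ[k] (V' ⧸ m) ⊗[k] A :=
    Algebra.TensorProduct.map (Ideal.Quotient.mkₐ k m) (AlgHom.id k A)
  have hρπ : ρ (π ⊗ₜ 1) = 0 := by
    rw [Algebra.TensorProduct.map_tmul, Ideal.Quotient.mkₐ_eq_mk, Ideal.Quotient.eq_zero_iff_mem.2 hπm,
      TensorProduct.zero_tmul]
  haveI := hred (V' ⧸ m)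
  have hne : ((b.baseChange (V' ⧸ m)).repr (ρ y)) j = 1 := by
    rw [map_sum, map_sum, Finsupp.finsetSum_apply, Finset.sum_eq_single (⟨j, hj⟩ : c.support)]
    · rw [Algebra.TensorProduct.map_tmul, AlgHom.coe_id, id, Module.Basis.baseChange_repr_tmul,
        b.repr_self, Finsupp.single_eq_same, one_smul]
      show Ideal.Quotient.mk m _ = 1
      rw [← map_one (Ideal.Quotient.mk m)]
      exact congrArg _ (Subtype.ext (inv_mul_cancel₀ hcj0))
    · intro t _ ht
      rw [Algebra.TensorProduct.map_tmul, AlgHom.coe_id, id, Module.Basis.baseChange_repr_tmul,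
        b.repr_self, Finsupp.single_eq_of_ne (fun h => ht (Subtype.ext h.symm)), zero_smul]
    · exact fun h => (h (Finset.mem_attach _ _)).elim
  have h2 : Polynomial.eval (ρ y) ((p.scaleRoots (π ⊗ₜ 1)).map ρ.toRingHom) = 0 := by
    rw [Polynomial.eval_map, ← map_zero ρ.toRingHom, ← h0, Polynomial.eval, Polynomial.hom_eval₂,
      RingHom.comp_id]
    rfl
  haveI hnt : Nontrivial ((V' ⧸ m) ⊗[k] A) := nontrivial_of_ne (ρ y) 0 fun h => by
    rw [h, map_zero] at hne
    exact zero_ne_one hne
  rw [Polynomial.map_scaleRoots _ _ _ (by rw [hp.leadingCoeff, map_one]; exact one_ne_zero),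
    show ρ.toRingHom (π ⊗ₜ 1) = 0 from hρπ, Polynomial.scaleRoots_zero, (hp.map _).leadingCoeff, one_smul,
    Polynomial.eval_pow, Polynomial.eval_X] at h2
  rw [IsReduced.eq_zero _ ⟨_, h2⟩, map_zero] at hne
  exact zero_ne_one hne

/-- `B ⊗ A` is integrally closed in `L ⊗ A` when `B` is integrally closed with fraction field `L` and `A` is
geometrically reduced. -/
theorem exists_preimage_of_isIntegral (hred : ∀ (K : Type u) [Field K] [Algebra k K], IsReduced (K ⊗[k] A))
    (B : Type u) [CommRing B] [IsDomain B] [IsIntegrallyClosed B] [Algebra k B] [Algebra B L]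
    [IsScalarTower k B L] [IsFractionRing B L] (x : L ⊗[k] A)
    (hx : (Algebra.TensorProduct.map (IsScalarTower.toAlgHom k B L) (AlgHom.id k A)).toRingHom.IsIntegralElem x) :
    ∃ z, Algebra.TensorProduct.map (IsScalarTower.toAlgHom k B L) (AlgHom.id k A) z = x := by
  classical
  let ι := IsScalarTower.toAlgHom k B L
  let φ := Algebra.TensorProduct.map ι (AlgHom.id k A)
  haveI : IsIntegrallyClosedIn (algebraMap B L).range L := Subring.isIntegrallyClosedIn_iff.2 fun e he => by
    obtain ⟨p, hp, hpe⟩ := he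
    have hlift : p.map (algebraMap (algebraMap B L).range L) ∈ Polynomial.lifts (algebraMap B L) :=
      (Polynomial.lifts_iff_coeff_lifts _).2 fun n => by
        rw [Polynomial.coeff_map]
        obtain ⟨z, hz⟩ := (p.coeff n).2
        exact ⟨z, hz⟩
    obtain ⟨q, hq, -, hqm⟩ := Polynomial.lifts_and_natDegree_eq_and_monic hlift (hp.map _)
    refine IsIntegrallyClosed.algebraMap_eq_of_integral (R := B) ⟨q, hqm, ?_⟩
    rw [← Polynomial.eval_map, hq, Polynomial.eval_map]
    exact hpe
  let b := Module.Free.chooseBasis k A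
  have hc : ∀ i, (b.baseChange L).repr x i ∈ (algebraMap B L).range := fun i => by
    by_contra hi
    obtain ⟨V, hBV, hiV⟩ := Subring.exists_le_valuationSubring_of_isIntegrallyClosedIn
      (R := (algebraMap B L).range) (x := (b.baseChange L).repr x i) hi
    let V' : Subalgebra k L :=
      { V.toSubring.toSubsemiring with
        algebraMap_mem' := fun r => hBV ⟨algebraMap k B r, (IsScalarTower.algebraMap_apply k B L r).symm⟩ }
    refine hiV (coord_mem_of_isIntegral V V' rfl hred b x ?_ i)
    obtain ⟨p, hp, hpx⟩ := hx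
    let κ : B →ₐ[k] V' := ι.codRestrict V' fun z => hBV ⟨z, rfl⟩
    refine ⟨p.map (Algebra.TensorProduct.map κ (AlgHom.id k A)).toRingHom, hp.map _, ?_⟩
    rw [Polynomial.eval₂_map]
    have hκ : ∀ z, Algebra.TensorProduct.map V'.val (AlgHom.id k A)
        (Algebra.TensorProduct.map κ (AlgHom.id k A) z) = φ z := fun z => by
      induction z using TensorProduct.induction_on with
      | zero => simp
      | tmul a c => rfl
      | add u v hu hv => simp only [map_add, hu, hv]
    rw [show (Algebra.TensorProduct.map V'.val (AlgHom.id k A)).toRingHom.comp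
      (Algebra.TensorProduct.map κ (AlgHom.id k A)).toRingHom = φ.toRingHom from RingHom.ext hκ]
    exact hpx
  choose g hg using hc
  refine ⟨∑ i ∈ ((b.baseChange L).repr x).support, g i ⊗ₜ b i, ?_⟩
  show φ _ = x
  conv_rhs => rw [← (b.baseChange L).linearCombination_repr x, Finsupp.linearCombination_apply, Finsupp.sum]
  rw [map_sum]
  refine Finset.sum_congr rfl fun t _ => ?_
  rw [Algebra.TensorProduct.map_tmul, Module.Basis.baseChange_apply, TensorProduct.smul_tmul', smul_eq_mul,
    mul_one, ← hg t]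
  rfl

/-- `B ⊗ A` is normal for `B` integrally closed with finitely generated fraction field, `A` a geometrically
normal domain. -/
theorem isNormalRing_tensor_frac_aux [IsDomain A] [Algebra.EssFiniteType k L] (hT : EGA4.IsNormalRing (L ⊗[k] A))
    (B : Type u) [CommRing B] [IsDomain B] [IsIntegrallyClosed B] [Algebra k B] [Algebra B L]
    [IsScalarTower k B L] [IsFractionRing B L]
    (hIC : ∀ x, (Algebra.TensorProduct.map (IsScalarTower.toAlgHom k B L) (AlgHom.id k A)).toRingHom.IsIntegralElem x →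
      ∃ z, Algebra.TensorProduct.map (IsScalarTower.toAlgHom k B L) (AlgHom.id k A) z = x) :
    EGA4.IsNormalRing (B ⊗[k] A) := by
  classical
  let ι := IsScalarTower.toAlgHom k B L
  let φ := Algebra.TensorProduct.map ι (AlgHom.id k A)
  letI : Algebra (B ⊗[k] A) (L ⊗[k] A) := φ.toRingHom.toAlgebra
  haveI : IsScalarTower B (B ⊗[k] A) (L ⊗[k] A) :=
    IsScalarTower.of_algebraMap_eq (R := B) (S := B ⊗[k] A) (A := L ⊗[k] A) fun a => by
      simp [RingHom.algebraMap_toAlgebra, φ, ι]
  haveI := IsLocalization.tensorProduct_tensorProduct k A (nonZeroDivisors B) L (by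
    ext l; simp [RingHom.algebraMap_toAlgebra, φ, ι])
  have hinj : Function.Injective φ :=
    Module.Flat.rTensor_preserves_injective_linearMap (M := A) ι.toLinearMap (IsFractionRing.injective B L)
  refine isNormalRing_of_isIntegrallyClosedIn (T := L ⊗[k] A)
    (Algebra.algebraMapSubmonoid (B ⊗[k] A) (nonZeroDivisors B)) hinj
    hT ?_ fun x hx => ?_
  · let K := FractionRing A
    haveI : IsNoetherianRing (K ⊗[k] L) := Algebra.EssFiniteType.isNoetherianRing K (K ⊗[k] L)
    haveI : IsNoetherianRing (L ⊗[k] K) :=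
      isNoetherianRing_of_ringEquiv _ (Algebra.TensorProduct.comm k K L).toRingEquiv
    let ψ := Algebra.TensorProduct.map (AlgHom.id k L) (IsScalarTower.toAlgHom k A K)
    have hψ : Function.Injective ψ.toRingHom :=
      Module.Flat.lTensor_preserves_injective_linearMap (M := L) (IsScalarTower.toAlgHom k A K).toLinearMap
        (IsFractionRing.injective A K)
    refine ((minimalPrimes.finite_of_isNoetherianRing (L ⊗[k] K)).image (Ideal.comap ψ.toRingHom)).subset
      fun P hP => ?_
    obtain ⟨Q, hQ, hQP⟩ := Ideal.exists_minimalPrimes_comap_eq ψ.toRingHom (I := ⊥) P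
      (by rwa [← RingHom.ker_eq_comap_bot, (RingHom.injective_iff_ker_eq_bot _).1 hψ])
    exact ⟨Q, hQ, hQP⟩
  · exact hIC x hx

theorem isNormalRing_tensor_frac [IsDomain A] [Algebra.EssFiniteType k L] (hA : EGA4.IsGeomNormal k A)
    (B : Type u) [CommRing B] [IsDomain B] [IsIntegrallyClosed B] [Algebra k B] [Algebra B L]
    [IsScalarTower k B L] [IsFractionRing B L] : EGA4.IsNormalRing (B ⊗[k] A) :=
  isNormalRing_tensor_frac_aux (isNormalRing_tensor_of_isGeomNormal k A hA L) B fun x hx =>
    exists_preimage_of_isIntegral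
      (fun K _ _ => isReduced_of_isNormalRing (isNormalRing_tensor_of_isGeomNormal k A hA K)) B x hx

theorem isNormalRing_tensor_union (B : Type u) [CommRing B] [IsDomain B] [IsIntegrallyClosed B] [Algebra k B]
    (h : ∀ (E : IntermediateField k (FractionRing B)) [Algebra.EssFiniteType k E] (B₀ : Type u) [CommRing B₀]
      [IsDomain B₀] [IsIntegrallyClosed B₀] [Algebra k B₀] [Algebra B₀ E] [IsScalarTower k B₀ E]
      [IsFractionRing B₀ E], EGA4.IsNormalRing (B₀ ⊗[k] A)) : EGA4.IsNormalRing (B ⊗[k] A) := by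
  classical
  let L := FractionRing B
  let ι := IsScalarTower.toAlgHom k B L
  have hinj : Function.Injective ι := IsFractionRing.injective B L
  refine isNormalRing_of_forall_exists_map fun s => ?_
  have hmem : ∀ x : B ⊗[k] A, ∃ c : Finset B, ∀ (E : IntermediateField k L), (∀ z ∈ c, ι z ∈ E) →
      ∃ y : ↥(E.toSubalgebra.comap ι) ⊗[k] A,
        Algebra.TensorProduct.map (E.toSubalgebra.comap ι).val (AlgHom.id k A) y = x := fun x => by
    obtain ⟨S, rfl⟩ := TensorProduct.exists_finset x
    refine ⟨S.image Prod.fst, fun E hE => ⟨∑ i ∈ S.attach,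
      (⟨i.1.1, hE _ (Finset.mem_image_of_mem _ i.2)⟩ : E.toSubalgebra.comap ι) ⊗ₜ i.1.2, ?_⟩⟩
    rw [map_sum, ← Finset.sum_attach S]
    rfl
  choose c hc using hmem
  let G : Set L := ι '' (s.biUnion c : Finset B)
  let E := IntermediateField.adjoin k G
  haveI : Algebra.EssFiniteType k E :=
    IntermediateField.essFiniteType_iff.2 ⟨(s.biUnion c).image ι, by rw [Finset.coe_image]⟩
  let B₀ := E.toSubalgebra.comap ι
  let ι₀ : B₀ →ₐ[k] E := (ι.comp B₀.val).codRestrict E.toSubalgebra fun z => z.2
  have hsub : Algebra.adjoin k G ≤ ι.range := Algebra.adjoin_le fun z ⟨w, _, hw⟩ => ⟨w, hw⟩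
  have hinj₀ : Function.Injective ι₀ := fun a d h => Subtype.ext (hinj (congrArg Subtype.val h))
  have h1 : EGA4.IsNormalRing (B₀ ⊗[k] A) := by
    letI : Algebra B₀ E := ι₀.toRingHom.toAlgebra
    haveI : IsScalarTower k B₀ E := IsScalarTower.of_algebraMap_eq fun r => (ι₀.commutes r).symm
    haveI : FaithfulSMul B₀ E := (faithfulSMul_iff_algebraMap_injective B₀ E).2 hinj₀
    have hfr : ∀ e : E, ∃ a d : B₀, d ≠ 0 ∧ e * ι₀ d = ι₀ a := fun e => by
      obtain ⟨r, hr, t, ht, hrt⟩ := IntermediateField.mem_adjoin_iff_div.1 e.2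
      by_cases ht0 : t = 0
      · refine ⟨0, 1, one_ne_zero, ?_⟩
        rw [map_one, map_zero, mul_one]
        exact Subtype.ext (by rw [hrt, ht0, div_zero]; rfl)
      · obtain ⟨r', rfl⟩ := hsub hr
        obtain ⟨t', rfl⟩ := hsub ht
        refine ⟨⟨r', IntermediateField.algebra_adjoin_le_adjoin k G hr⟩,
          ⟨t', IntermediateField.algebra_adjoin_le_adjoin k G ht⟩,
          fun h => ht0 ?_, Subtype.ext ?_⟩
        · show ι t' = 0
          rw [show t' = 0 from congrArg Subtype.val h, map_zero]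
        · show (e : L) * ι t' = ι r'
          exact hrt ▸ div_mul_cancel₀ _ ht0
    haveI : IsFractionRing B₀ E := by
      refine (isLocalization_iff _ _).2 ⟨fun y => IsUnit.mk0 _ fun h => nonZeroDivisors.ne_zero y.2
        (hinj₀ (h.trans (map_zero _).symm)), fun e => ?_, fun {x y} h => ⟨1, by rw [hinj₀ h]⟩⟩
      obtain ⟨a, d, hd, he⟩ := hfr e
      exact ⟨(a, ⟨d, mem_nonZeroDivisors_of_ne_zero hd⟩), he⟩
    haveI : IsIntegrallyClosed B₀ := (isIntegrallyClosed_iff E).2 fun {e} he => by
      obtain ⟨p, hp, hpe⟩ := he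
      obtain ⟨w, hw⟩ := IsIntegrallyClosed.algebraMap_eq_of_integral (R := B) (K := L) (x := (e : L))
        ⟨p.map (B₀.val : B₀ →+* B), hp.map _, by
          rw [Polynomial.eval₂_map, show (algebraMap B L).comp (B₀.val : B₀ →+* B) =
            (E.val : E →+* L).comp (algebraMap B₀ E) from RingHom.ext fun z => rfl]
          have := congrArg (E.val : E →+* L) hpe
          rwa [Polynomial.hom_eval₂, map_zero] at this⟩
      exact ⟨⟨w, show ι w ∈ E.toSubalgebra from hw ▸ e.2⟩, Subtype.ext hw⟩
    exact h E B₀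
  refine ⟨↥B₀ ⊗[k] A, inferInstance, (Algebra.TensorProduct.map B₀.val (AlgHom.id k A)).toRingHom,
    Module.Flat.rTensor_preserves_injective_linearMap (M := A) B₀.val.toLinearMap Subtype.val_injective,
    h1, fun x hx => hc x E fun z hz => ?_⟩
  exact IntermediateField.subset_adjoin k G ⟨z, Finset.mem_biUnion.2 ⟨x, hx, hz⟩, rfl⟩

theorem isNormalRing_tensor_domains (B : Type u) [CommRing B] [IsDomain B] [IsIntegrallyClosed B] [Algebra k B]
    [IsDomain A] (hA : EGA4.IsGeomNormal k A) : EGA4.IsNormalRing (B ⊗[k] A) :=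
  isNormalRing_tensor_union B fun E _ B₀ _ _ _ _ _ _ _ => isNormalRing_tensor_frac hA B₀ (L := E)

/-- Normality of `A ⊗ B` can be checked after localising the right factor. -/
theorem isNormalRing_tensor_of_localization (U W : Type u) [CommRing U] [CommRing W] [Algebra k U] [Algebra k W]
    (h : ∀ (q : Ideal U) [q.IsPrime], EGA4.IsNormalRing (Localization.AtPrime q ⊗[k] W)) :
    EGA4.IsNormalRing (U ⊗[k] W) := by
  refine isNormalRing_of_forall_exists_localization fun P _ => ?_
  let q := P.comap (algebraMap U (U ⊗[k] W))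
  let Uq := Localization.AtPrime q
  let f := Algebra.TensorProduct.map (IsScalarTower.toAlgHom k U Uq) (AlgHom.id k W)
  letI : Algebra (U ⊗[k] W) (Uq ⊗[k] W) := f.toRingHom.toAlgebra
  haveI : IsScalarTower U (U ⊗[k] W) (Uq ⊗[k] W) :=
    IsScalarTower.of_algebraMap_eq (R := U) (S := U ⊗[k] W) (A := Uq ⊗[k] W) fun a => rfl
  haveI := IsLocalization.tensorProduct_tensorProduct k W q.primeCompl Uq (by
    ext l; simp [RingHom.algebraMap_toAlgebra, f])
  refine ⟨Algebra.algebraMapSubmonoid (U ⊗[k] W) q.primeCompl, Uq ⊗[k] W, inferInstance, inferInstance,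
    inferInstance, ?_, h q⟩
  rw [Set.disjoint_left]
  rintro _ ⟨u, hu, rfl⟩ hP
  exact hu hP

theorem isGeomNormal_localization {U : Type u} [CommRing U] [Algebra k U] (hU : EGA4.IsGeomNormal k U)
    (q : Ideal U) [q.IsPrime] : EGA4.IsGeomNormal k (Localization.AtPrime q) := by
  intro k' _ _ hf
  let Uq := Localization.AtPrime q
  let f := Algebra.TensorProduct.map (IsScalarTower.toAlgHom k U Uq) (AlgHom.id k k')
  letI : Algebra (U ⊗[k] k') (Uq ⊗[k] k') := f.toRingHom.toAlgebra
  haveI : IsScalarTower U (U ⊗[k] k') (Uq ⊗[k] k') :=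
    IsScalarTower.of_algebraMap_eq (R := U) (S := U ⊗[k] k') (A := Uq ⊗[k] k') fun a => rfl
  haveI := IsLocalization.tensorProduct_tensorProduct k k' q.primeCompl Uq (by
    ext l; simp [RingHom.algebraMap_toAlgebra, f])
  exact EGA4Lib.isNormalRing_of_ringEquiv (Algebra.TensorProduct.comm k Uq k').toRingEquiv
    (EGA4Lib.isNormalRing_of_isLocalization (Algebra.algebraMapSubmonoid (U ⊗[k] k') q.primeCompl)
      (EGA4Lib.isNormalRing_of_ringEquiv (Algebra.TensorProduct.comm k k' U).toRingEquiv (hU k' hf)))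

/-- EGA IV 6.14.1: no finiteness hypothesis. -/
theorem isNormalRing_tensor_general (B : Type u) [CommRing B] [Algebra k B]
    (hA : EGA4.IsGeomNormal k A) (hB : EGA4.IsNormalRing B) : EGA4.IsNormalRing (A ⊗[k] B) := by
  refine EGA4Lib.isNormalRing_of_ringEquiv (Algebra.TensorProduct.comm k B A).toRingEquiv
    (isNormalRing_tensor_of_localization B A fun q _ => ?_)
  haveI := (hB q).1
  haveI := (hB q).2
  refine EGA4Lib.isNormalRing_of_ringEquiv (Algebra.TensorProduct.comm k A (Localization.AtPrime q)).toRingEquiv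
    (isNormalRing_tensor_of_localization A (Localization.AtPrime q) fun p _ => ?_)
  haveI : IsDomain (Localization.AtPrime p) :=
    (EGA4Lib.isNormalRing_of_ringEquiv (Algebra.TensorProduct.lid k A).toRingEquiv (hA k inferInstance) p).1
  exact EGA4Lib.isNormalRing_of_ringEquiv
    (Algebra.TensorProduct.comm k (Localization.AtPrime q) (Localization.AtPrime p)).toRingEquiv
    (isNormalRing_tensor_domains (Localization.AtPrime q) (isGeomNormal_localization hA p))

end Groth.Agent.GeomFieldLib
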