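import Groth.Agent.GeomFieldLib.Corollaries
import Groth.Agent.EGA4Lib.SkFibers
import Groth.Agent.Depth.CM

/-!
# Cohen–Macaulayness of tensor products of fields (EGA IV 6.7.1)
-/

set_option autoImplicit false
set_option linter.style.haveILetI false

universe u

open TensorProduct IsLocalRing

namespace Groth.Agent.GeomFieldLib

theorem isCohenMacaulayRing_of_ringEquiv {R R' : Type u} [CommRing R] [CommRing R'] (e : R ≃+* R')
    (h : LocCoh.IsCohenMacaulayRing R) : LocCoh.IsCohenMacaulayRing R' := by
  haveI : IsNoetherianRing R' := isNoetherianRing_of_ringEquiv _ e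
  refine ⟨fun q _ => ?_⟩
  let f := IsLocalization.ringEquivOfRingEquiv (M := (q.comap e.toRingHom).primeCompl)
    (T := q.primeCompl) (Localization.AtPrime (q.comap e.toRingHom)) (Localization.AtPrime q) e (by
      ext x
      exact ⟨fun ⟨y, hy, hyx⟩ => hyx ▸ hy, fun hx => ⟨e.symm x, by
        show e (e.symm x) ∉ q
        rwa [e.apply_symm_apply], e.apply_symm_apply x⟩⟩)
  obtain ⟨h1, h2⟩ := EGA4Lib.depth_supportDim_ringEquiv f
  exact { supportDim_eq_depth := by
            rw [← h1, ← h2]
            exact (h.isCohenMacaulayLocalRing_localization (q.comap e.toRingHom)).supportDim_eq_depth }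


/-- For the property 'Cohen–Macaulay', case of a local ring: if the formal fibres of a Noetherian local
ring A are Cohen–Macaulay, then so are the formal fibres of A/I for every proper ideal I of A. -/

theorem hasSk_of_ringEquiv (n : ℕ) {R R' : Type u} [CommRing R] [CommRing R'] (e : R ≃+* R')
    (h : LocCoh.HasSk n R R) : LocCoh.HasSk n R' R' := fun q _ => by
  let f := IsLocalization.ringEquivOfRingEquiv (M := (q.comap e.toRingHom).primeCompl)
    (T := q.primeCompl) (Localization.AtPrime (q.comap e.toRingHom)) (Localization.AtPrime q) e (by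
      ext x
      exact ⟨fun ⟨y, hy, hyx⟩ => hyx ▸ hy, fun hx => ⟨e.symm x, by
        show e (e.symm x) ∉ q
        rwa [e.apply_symm_apply], e.apply_symm_apply x⟩⟩)
  obtain ⟨h1, h2⟩ := EGA4Lib.depth_supportDim_ringEquiv f
  obtain ⟨a1, a2⟩ := EGA4Lib.depth_supportDim_congr (L := Localization.AtPrime q)
    (X := LocalizedModule q.primeCompl R') (Y := Localization.AtPrime q)
    (Depth.localizedModuleSelfEquiv q.primeCompl)
  obtain ⟨b1, b2⟩ := EGA4Lib.depth_supportDim_congr (L := Localization.AtPrime (q.comap e.toRingHom))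
    (X := LocalizedModule (q.comap e.toRingHom).primeCompl R) (Y := Localization.AtPrime (q.comap e.toRingHom))
    (Depth.localizedModuleSelfEquiv (q.comap e.toRingHom).primeCompl)
  have := h (q.comap e.toRingHom)
  rw [a1, a2, ← h1, ← h2]
  rwa [b1, b2] at this

theorem hasSk_of_isCohenMacaulayRing {R : Type u} [CommRing R] (h : LocCoh.IsCohenMacaulayRing R) (k : ℕ) :
    LocCoh.HasSk k R R := fun p _ => by
  obtain ⟨h1, h2⟩ := EGA4Lib.depth_supportDim_congr (L := Localization.AtPrime p)
    (X := LocalizedModule p.primeCompl R) (Y := Localization.AtPrime p)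
    (Depth.localizedModuleSelfEquiv p.primeCompl)
  rw [h1, h2, (h.isCohenMacaulayLocalRing_localization p).supportDim_eq_depth]
  exact min_le_right _ _

theorem isCohenMacaulayRing_of_forall_hasSk {R : Type u} [CommRing R] [IsNoetherianRing R]
    (h : ∀ k, LocCoh.HasSk k R R) : LocCoh.IsCohenMacaulayRing R := by
  refine ⟨fun p _ => { supportDim_eq_depth := le_antisymm ?_ Depth.depth_le_supportDim }⟩
  obtain ⟨h1, h2⟩ := EGA4Lib.depth_supportDim_congr (L := Localization.AtPrime p)
    (X := LocalizedModule p.primeCompl R) (Y := Localization.AtPrime p)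
    (Depth.localizedModuleSelfEquiv p.primeCompl)
  obtain ⟨n, hn, -⟩ := RegLoc.exists_natCast_eq_ringKrullDim (Localization.AtPrime p)
  have := h n p
  rw [h1, h2, Module.supportDim_self_eq_ringKrullDim, hn, min_eq_left le_rfl] at this
  rw [Module.supportDim_self_eq_ringKrullDim, hn]
  exact this

theorem isCohenMacaulayRing_of_isRegularRing (R : Type u) [CommRing R] [IsRegularRing R] :
    LocCoh.IsCohenMacaulayRing R :=
  ⟨fun p _ => haveI := IsRegularRing.isRegularLocalRing_localization p
    Depth.isCohenMacaulayLocalRing_of_isRegularLocalRing⟩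

theorem isCohenMacaulayRing_of_isArtinianRing (R : Type u) [CommRing R] [IsArtinianRing R] :
    LocCoh.IsCohenMacaulayRing R := by
  refine ⟨fun p _ => { supportDim_eq_depth := le_antisymm ?_ Depth.depth_le_supportDim }⟩
  rw [Module.supportDim_self_eq_ringKrullDim]
  exact (Ring.krullDimLE_iff.1 (inferInstance : Ring.KrullDimLE 0 (Localization.AtPrime p))).trans
    (WithBot.coe_le_coe.mpr zero_le)

theorem isCohenMacaulayRing_of_flat (A B : Type u) [CommRing A] [CommRing B] [IsNoetherianRing B]
    [Algebra A B] [Module.Flat A B] (hA : LocCoh.IsCohenMacaulayRing A)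
    (hfib : ∀ (p : Ideal A) [p.IsPrime], LocCoh.IsCohenMacaulayRing (p.Fiber B)) :
    LocCoh.IsCohenMacaulayRing B :=
  haveI : IsNoetherianRing A := (haveI := hA; inferInstance)
  isCohenMacaulayRing_of_forall_hasSk fun k => EGA4Lib.hasSk_of_flat_of_fibres A k
    (hasSk_of_isCohenMacaulayRing hA k) fun p _ => hasSk_of_isCohenMacaulayRing (hfib p) k

theorem isCohenMacaulayRing_of_faithfullyFlat (A B : Type u) [CommRing A] [CommRing B] [IsNoetherianRing A]
    [Algebra A B] [Module.FaithfullyFlat A B] (hB : LocCoh.IsCohenMacaulayRing B) :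
    LocCoh.IsCohenMacaulayRing A :=
  haveI : IsNoetherianRing B := (haveI := hB; inferInstance)
  isCohenMacaulayRing_of_forall_hasSk fun k =>
    EGA4Lib.hasSk_of_faithfullyFlat A k (hasSk_of_isCohenMacaulayRing hB k)

/-- A base change by a field extension of an (S_n) algebra, given good fibres. -/
theorem hasSk_tensor_field (n : ℕ) (F L : Type u) [Field F] [Field L] [Algebra F L] (R : Type u)
    [CommRing R] [Algebra F R] [IsNoetherianRing R] [IsNoetherianRing (L ⊗[F] R)] (hR : LocCoh.HasSk n R R)
    (h : ∀ (K : Type u) [Field K] [Algebra F K], LocCoh.IsCohenMacaulayRing (L ⊗[F] K)) :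
    LocCoh.HasSk n (L ⊗[F] R) (L ⊗[F] R) := by
  haveI : IsNoetherianRing (R ⊗[F] L) :=
    isNoetherianRing_of_ringEquiv _ (Algebra.TensorProduct.comm F L R).toRingEquiv
  refine hasSk_of_ringEquiv n (Algebra.TensorProduct.comm F R L).toRingEquiv
    (EGA4Lib.hasSk_of_flat_of_fibres R n hR fun p _ => ?_)
  obtain ⟨e⟩ := nonempty_fiber_tensor F R L p
  exact hasSk_of_isCohenMacaulayRing (isCohenMacaulayRing_of_ringEquiv
    ((Algebra.TensorProduct.comm F L p.ResidueField).toRingEquiv.trans e.symm) (h p.ResidueField)) n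

theorem isNoetherianRing_frac_tensor (F : Type u) [Field F] (R : Type u) [CommRing R] [Algebra F R] (σ : Type u)
    [Finite σ] [IsNoetherianRing R] : IsNoetherianRing (FractionRing (MvPolynomial σ F) ⊗[F] R) := by
  let S := MvPolynomial σ F
  let Q := FractionRing S
  letI : Algebra (S ⊗[F] R) (Q ⊗[F] R) :=
    (Algebra.TensorProduct.map (IsScalarTower.toAlgHom F S Q) (AlgHom.id F R)).toRingHom.toAlgebra
  haveI : IsScalarTower S (S ⊗[F] R) (Q ⊗[F] R) :=
    IsScalarTower.of_algebraMap_eq (R := S) (S := S ⊗[F] R) (A := Q ⊗[F] R) fun a => rfl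
  haveI := IsLocalization.tensorProduct_tensorProduct F R (nonZeroDivisors S) Q (by
    ext l; simp [RingHom.algebraMap_toAlgebra])
  haveI : IsNoetherianRing (S ⊗[F] R) := isNoetherianRing_of_ringEquiv (MvPolynomial σ R)
    ((Algebra.TensorProduct.comm F S R).toRingEquiv.trans (MvPolynomial.algebraTensorAlgEquiv F R).toRingEquiv).symm
  exact IsLocalization.isNoetherianRing (Algebra.algebraMapSubmonoid (S ⊗[F] R) (nonZeroDivisors S)) _ inferInstance

theorem isNoetherianRing_tensor_finite (F L : Type u) [Field F] [Field L] [Algebra F L] [FiniteDimensional F L]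
    (R : Type u) [CommRing R] [Algebra F R] [IsNoetherianRing R] : IsNoetherianRing (L ⊗[F] R) := by
  haveI : IsNoetherianRing (R ⊗[F] L) := Algebra.FiniteType.isNoetherianRing R (R ⊗[F] L)
  exact isNoetherianRing_of_ringEquiv _ (Algebra.TensorProduct.comm F R L).toRingEquiv

theorem hasSk_tensor_finite (n : ℕ) (F L : Type u) [Field F] [Field L] [Algebra F L] [FiniteDimensional F L]
    (R : Type u) [CommRing R] [Algebra F R] [IsNoetherianRing R] (hR : LocCoh.HasSk n R R) :
    LocCoh.HasSk n (L ⊗[F] R) (L ⊗[F] R) := by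
  haveI := isNoetherianRing_tensor_finite F L R
  refine hasSk_tensor_field n F L R hR fun K _ _ => ?_
  haveI : IsArtinianRing (K ⊗[F] L) := IsArtinianRing.of_finite K (K ⊗[F] L)
  exact isCohenMacaulayRing_of_ringEquiv (Algebra.TensorProduct.comm F K L).toRingEquiv
    (isCohenMacaulayRing_of_isArtinianRing (K ⊗[F] L))

theorem hasSk_frac_tensor (n : ℕ) (F : Type u) [Field F] (R : Type u) [CommRing R] [Algebra F R] (σ : Type u)
    [Finite σ] [IsNoetherianRing R] (hR : LocCoh.HasSk n R R) :
    LocCoh.HasSk n (FractionRing (MvPolynomial σ F) ⊗[F] R) (FractionRing (MvPolynomial σ F) ⊗[F] R) := by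
  haveI := isNoetherianRing_frac_tensor F R σ
  refine hasSk_tensor_field n F _ R hR fun K _ _ => ?_
  haveI := isRegularRing_frac_tensor F K σ
  exact isCohenMacaulayRing_of_isRegularRing _

/-- EGA IV 6.7.1: `(S_n)` passes to finitely generated field extensions. -/
theorem hasSk_tensor_fg (n : ℕ) (k K A : Type u) [Field k] [Field K] [Algebra k K]
    [Algebra.EssFiniteType k K] [CommRing A] [Algebra k A] [IsNoetherianRing A] (hA : LocCoh.HasSk n A A) :
    LocCoh.HasSk n (K ⊗[k] A) (K ⊗[k] A) := by
  haveI : IsNoetherianRing (A ⊗[k] K) := Algebra.EssFiniteType.isNoetherianRing A (A ⊗[k] K)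
  haveI : IsNoetherianRing (K ⊗[k] A) :=
    isNoetherianRing_of_ringEquiv _ (Algebra.TensorProduct.comm k A K).toRingEquiv
  refine (field_reduction (fun R _ => IsNoetherianRing R ∧ LocCoh.HasSk n R R)
    (fun R R' _ _ e hR => haveI := hR.1
      ⟨isNoetherianRing_of_ringEquiv _ e, hasSk_of_ringEquiv n e hR.2⟩)
    (fun F _ R _ _ σ _ hR => haveI := hR.1
      ⟨isNoetherianRing_frac_tensor F R σ, hasSk_frac_tensor n F R σ hR.2⟩)
    (fun F L _ _ _ _ _ R _ _ hR => haveI := hR.1
      ⟨isNoetherianRing_tensor_finite F L R, hasSk_tensor_finite n F L R hR.2⟩) k K A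
    (fun k' _ _ hf _ => haveI := hf
      ⟨isNoetherianRing_tensor_finite k k' A, hasSk_tensor_finite n k k' A hA⟩)
    fun L _ _ hL => ?_).2
  haveI := hL.1
  haveI : IsNoetherianRing ((K ⊗[k] A) ⊗[K] L) :=
    isNoetherianRing_of_ringEquiv _ (Algebra.TensorProduct.comm K L (K ⊗[k] A)).toRingEquiv
  exact ⟨inferInstance, EGA4Lib.hasSk_of_faithfullyFlat (B := (K ⊗[k] A) ⊗[K] L) (K ⊗[k] A) n
    (hasSk_of_ringEquiv n (Algebra.TensorProduct.comm K L (K ⊗[k] A)).toRingEquiv hL.2)⟩

theorem isCohenMacaulayRing_tensor_fg (k K A : Type u) [Field k] [Field K] [Algebra k K]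
    [Algebra.EssFiniteType k K] [CommRing A] [Algebra k A] (hA : LocCoh.IsCohenMacaulayRing A) :
    LocCoh.IsCohenMacaulayRing (K ⊗[k] A) := by
  haveI : IsNoetherianRing A := (haveI := hA; inferInstance)
  haveI : IsNoetherianRing (A ⊗[k] K) := Algebra.EssFiniteType.isNoetherianRing A (A ⊗[k] K)
  haveI : IsNoetherianRing (K ⊗[k] A) :=
    isNoetherianRing_of_ringEquiv _ (Algebra.TensorProduct.comm k A K).toRingEquiv
  exact isCohenMacaulayRing_of_forall_hasSk fun n => hasSk_tensor_fg n k K A (hasSk_of_isCohenMacaulayRing hA n)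

end Groth.Agent.GeomFieldLib
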