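import Groth.Agent.GeomFieldLib.Main
import Groth.Agent.EGA4Lib.FibreLoc
import Groth.Agent.FBase.TensorAlgClosed

/-!
# Consequences for fields and base changes
-/

set_option autoImplicit false
set_option linter.style.haveILetI false

universe u

open TensorProduct

namespace Groth.Agent.GeomFieldLib

theorem isRegularRing_of_isArtinianRing (T : Type u) [CommRing T] [IsReduced T] [IsArtinianRing T] :
    IsRegularRing T := by
  rw [isRegularRing_iff]
  intro P _
  haveI : IsArtinianRing (Localization.AtPrime P) := inferInstance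
  letI := (IsArtinianRing.isField_of_isReduced_of_isLocalRing (Localization.AtPrime P)).toField
  infer_instance

section field

variable (k L : Type u) [Field k] [Field L] [Algebra k L] [Algebra.IsGeometricallyReduced k L]
  (k' : Type u) [Field k'] [Algebra k k'] [Module.Finite k k']

theorem isReduced_isArtinian_tensor_of_geometricallyReduced :
    IsReduced (k' ⊗[k] L) ∧ IsArtinianRing (k' ⊗[k] L) := by
  refine ⟨FBase.TensorAlgClosed.isReduced_tensor_of_isGeometricallyReduced, ?_⟩
  haveI : IsArtinianRing (L ⊗[k] k') := IsArtinianRing.of_finite L (L ⊗[k] k')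
  exact (Algebra.TensorProduct.comm k L k').toRingEquiv.surjective.isArtinianRing
    (f := (Algebra.TensorProduct.comm k L k').toRingEquiv.toRingHom)

end field

theorem isGeometricallyRegular_of_geometricallyReduced (k L : Type u) [Field k] [Field L] [Algebra k L]
    [Algebra.IsGeometricallyReduced k L] : CAlg.IsGeometricallyRegular k L := fun k' _ _ hf => by
  haveI := hf
  obtain ⟨h1, h2⟩ := isReduced_isArtinian_tensor_of_geometricallyReduced k L k'
  exact isRegularRing_of_isArtinianRing (k' ⊗[k] L)

theorem isGeomNormal_of_geometricallyReduced (k L : Type u) [Field k] [Field L] [Algebra k L]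
    [Algebra.IsGeometricallyReduced k L] : EGA4.IsGeomNormal k L := fun k' _ _ hf => by
  haveI := hf
  obtain ⟨h1, h2⟩ := isReduced_isArtinian_tensor_of_geometricallyReduced k L k'
  exact isNormalRing_of_isArtinianRing (k' ⊗[k] L)

/-- A compositum of an extension with a finite extension. -/
theorem exists_compositum (k K k' : Type u) [Field k] [Field K] [Field k'] [Algebra k K] [Algebra k k']
    [Module.Finite k k'] :
    ∃ (L : Type u) (_ : Field L) (_ : Algebra K L) (_ : Algebra k' L) (_ : Algebra k L),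
      IsScalarTower k K L ∧ IsScalarTower k k' L ∧ Module.Finite K L := by
  haveI : Nontrivial (K ⊗[k] k') :=
    (Algebra.TensorProduct.includeLeft_injective (S := k) (A := K) (B := k') (RingHom.injective _)).nontrivial
  obtain ⟨m, hm⟩ := Ideal.exists_maximal (K ⊗[k] k')
  letI := Ideal.Quotient.field m
  letI : Algebra k' ((K ⊗[k] k') ⧸ m) :=
    ((Ideal.Quotient.mk m).comp (Algebra.TensorProduct.includeRight : k' →ₐ[k] K ⊗[k] k').toRingHom).toAlgebra
  haveI : IsScalarTower k k' ((K ⊗[k] k') ⧸ m) := IsScalarTower.of_algebraMap_eq fun c => by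
    rw [RingHom.algebraMap_toAlgebra]
    show _ = Ideal.Quotient.mk m ((Algebra.TensorProduct.includeRight : k' →ₐ[k] K ⊗[k] k') (algebraMap k k' c))
    rw [AlgHom.commutes]
    rfl
  exact ⟨(K ⊗[k] k') ⧸ m, inferInstance, inferInstance, inferInstance, inferInstance, inferInstance,
    inferInstance, inferInstance⟩

/-- EGA IV 6.7.4 (regular): descent from a field extension. -/
theorem isGeometricallyRegular_of_baseChange (k K S : Type u) [Field k] [Field K] [Algebra k K] [CommRing S]
    [Algebra k S] [IsNoetherianRing S] (h : CAlg.IsGeometricallyRegular K (K ⊗[k] S)) :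
    CAlg.IsGeometricallyRegular k S := by
  intro k' _ _ hf
  obtain ⟨L, _, _, _, _, _, _, _⟩ := exists_compositum k K k'
  haveI := h L inferInstance
  haveI : IsRegularRing (L ⊗[k] S) :=
    IsRegularRing.of_ringEquiv (R := L ⊗[K] (K ⊗[k] S))
      (Algebra.TensorProduct.cancelBaseChange k K L L S).toRingEquiv
  haveI : IsRegularRing (L ⊗[k'] (k' ⊗[k] S)) := IsRegularRing.of_ringEquiv (R := L ⊗[k] S)
      (Algebra.TensorProduct.cancelBaseChange k k' L L S).symm.toRingEquiv
  haveI : IsRegularRing ((k' ⊗[k] S) ⊗[k'] L) := IsRegularRing.of_ringEquiv (R := L ⊗[k'] (k' ⊗[k] S))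
      (Algebra.TensorProduct.comm k' L (k' ⊗[k] S)).toRingEquiv
  haveI : IsNoetherianRing (S ⊗[k] k') := Algebra.FiniteType.isNoetherianRing S (S ⊗[k] k')
  haveI : IsNoetherianRing (k' ⊗[k] S) :=
    isNoetherianRing_of_ringEquiv _ (Algebra.TensorProduct.comm k S k').toRingEquiv
  exact isRegularRing_of_faithfullyFlat (k' ⊗[k] S) ((k' ⊗[k] S) ⊗[k'] L)

/-- EGA IV 6.7.4 (normal): descent from a field extension. -/
theorem isGeomNormal_of_baseChange (k K S : Type u) [Field k] [Field K] [Algebra k K] [CommRing S]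
    [Algebra k S] (h : EGA4.IsGeomNormal K (K ⊗[k] S)) : EGA4.IsGeomNormal k S := by
  intro k' _ _ hf
  obtain ⟨L, _, _, _, _, _, _, _⟩ := exists_compositum k K k'
  have h1 := EGA4Lib.isNormalRing_of_ringEquiv
    (Algebra.TensorProduct.cancelBaseChange k K L L S).toRingEquiv (h L inferInstance)
  have h2 := EGA4Lib.isNormalRing_of_ringEquiv
    ((Algebra.TensorProduct.cancelBaseChange k k' L L S).symm.toRingEquiv.trans
      (Algebra.TensorProduct.comm k' L (k' ⊗[k] S)).toRingEquiv) h1
  exact EGA4Lib.isNormalRing_of_faithfullyFlat (k' ⊗[k] S) ((k' ⊗[k] S) ⊗[k'] L) h2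

/-- The fibres of `S → S ⊗_k T`. -/
theorem nonempty_fiber_tensor (k S T : Type u) [Field k] [CommRing S] [Algebra k S] [CommRing T] [Algebra k T]
    (q : Ideal S) [q.IsPrime] : Nonempty (q.Fiber (S ⊗[k] T) ≃+* q.ResidueField ⊗[k] T) :=
  ⟨(Algebra.TensorProduct.cancelBaseChange k S q.ResidueField q.ResidueField T).toRingEquiv⟩

theorem isRegularLocalRing_fibLocRing_of_regular_fiber {A B : Type u} [CommRing A] [CommRing B] [Algebra A B]
    (q : Ideal B) [q.IsPrime] [IsRegularRing ((q.comap (algebraMap A B)).Fiber B)] :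
    IsRegularLocalRing (EGA4.FibLocRing A B q) := by
  obtain ⟨Q, _, ⟨e⟩⟩ := EGA4Lib.nonempty_fibLocRing_equiv A q
  exact IsRegularLocalRing.of_ringEquiv (R := Localization.AtPrime Q) e

theorem isDomain_isIC_fibLocRing_of_normal_fiber {A B : Type u} [CommRing A] [CommRing B] [Algebra A B]
    (q : Ideal B) [q.IsPrime] (h : EGA4.IsNormalRing ((q.comap (algebraMap A B)).Fiber B)) :
    IsDomain (EGA4.FibLocRing A B q) ∧ IsIntegrallyClosed (EGA4.FibLocRing A B q) := by
  obtain ⟨Q, _, ⟨e⟩⟩ := EGA4Lib.nonempty_fibLocRing_equiv A q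
  exact isDomain_isIC_congr e.symm (h Q)

/-- EGA IV 6.14.5 for regular rings. -/
theorem isRegularRing_tensor (k S T : Type u) [Field k] [CommRing S] [CommRing T] [Algebra k S] [Algebra k T]
    [IsRegularRing S] [IsNoetherianRing T] [IsNoetherianRing (S ⊗[k] T)] (hT : CAlg.IsGeometricallyRegular k T) :
    IsRegularRing (S ⊗[k] T) := by
  rw [isRegularRing_iff]
  intro Q _
  let q := Q.comap (algebraMap S (S ⊗[k] T))
  obtain ⟨e⟩ := nonempty_fiber_tensor k S T q
  haveI : IsNoetherianRing (q.Fiber (S ⊗[k] T)) :=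
    EGA4Lib.forall_isCohenMacaulayRing_fiber_iff.isNoetherianRing_fiber S q
  haveI : IsNoetherianRing (q.ResidueField ⊗[k] T) := isNoetherianRing_of_ringEquiv _ e
  haveI := isRegularRing_tensor_of_pi k T (fun k' _ _ hf _ => hT k' hf) q.ResidueField
  haveI : IsRegularRing (q.Fiber (S ⊗[k] T)) :=
    IsRegularRing.of_ringEquiv (R := q.ResidueField ⊗[k] T) e.symm
  haveI := isRegularLocalRing_fibLocRing_of_regular_fiber (A := S) Q
  haveI : IsRegularLocalRing (Localization.AtPrime q) := IsRegularRing.isRegularLocalRing_localization q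
  exact EGA4Lib.isRegularLocalRing_of_regular_fibre (A := S) Q

end Groth.Agent.GeomFieldLib
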