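import Groth.Agent.GeomFieldLib.Corollaries

/-!
# Descent along flat maps, pointwise
-/

set_option autoImplicit false
set_option linter.style.haveILetI false

universe u

namespace Groth.Agent.GeomFieldLib

theorem exists_faithfullyFlat_local {A B : Type u} [CommRing A] [CommRing B] [Algebra A B] [Module.Flat A B]
    (q : Ideal B) [q.IsPrime] :
    ∃ _ : Algebra (Localization.AtPrime (q.comap (algebraMap A B))) (Localization.AtPrime q),
      Module.FaithfullyFlat (Localization.AtPrime (q.comap (algebraMap A B))) (Localization.AtPrime q) ∧
      IsLocalHom (algebraMap (Localization.AtPrime (q.comap (algebraMap A B))) (Localization.AtPrime q)) := by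
  letI : Algebra (Localization.AtPrime (q.comap (algebraMap A B))) (Localization.AtPrime q) :=
    (Localization.localRingHom _ q (algebraMap A B) rfl).toAlgebra
  haveI : IsLocalHom (algebraMap (Localization.AtPrime (q.comap (algebraMap A B)))
      (Localization.AtPrime q)) := Localization.isLocalHom_localRingHom _ _ _ rfl
  haveI : Module.Flat (Localization.AtPrime (q.comap (algebraMap A B))) (Localization.AtPrime q) :=
    RingHom.flat_algebraMap_iff.1 (RingHom.Flat.localRingHom (f := algebraMap A B)
      (RingHom.flat_algebraMap_iff.2 inferInstance) q _ rfl)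
  exact ⟨inferInstance, Module.FaithfullyFlat.of_flat_of_isLocalHom, inferInstance⟩

theorem isRegularLocalRing_comap_of_flat {A B : Type u} [CommRing A] [CommRing B] [Algebra A B]
    [IsNoetherianRing A] [IsNoetherianRing B] [Module.Flat A B] (q : Ideal B) [q.IsPrime]
    [IsRegularLocalRing (Localization.AtPrime q)] :
    IsRegularLocalRing (Localization.AtPrime (q.comap (algebraMap A B))) := by
  obtain ⟨_, h, _⟩ := exists_faithfullyFlat_local (A := A) q
  exact RegLoc.Homological.isRegularLocalRing_of_flat (Localization.AtPrime q)

theorem isDomain_isIC_comap_of_flat {A B : Type u} [CommRing A] [CommRing B] [Algebra A B]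
    [Module.Flat A B] (q : Ideal B) [q.IsPrime]
    (h : IsDomain (Localization.AtPrime q) ∧ IsIntegrallyClosed (Localization.AtPrime q)) :
    IsDomain (Localization.AtPrime (q.comap (algebraMap A B))) ∧
      IsIntegrallyClosed (Localization.AtPrime (q.comap (algebraMap A B))) := by
  obtain ⟨_, h', _⟩ := exists_faithfullyFlat_local (A := A) q
  haveI := h.1
  haveI := h.2
  exact EGA4Lib.isDomain_isIntegrallyClosed_of_faithfullyFlat _ (Localization.AtPrime q)

end Groth.Agent.GeomFieldLib
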