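import Groth.Agent.EGA4Lib.FibreBC
import Mathlib.RingTheory.Polynomial.IsIntegral
import Mathlib.RingTheory.Localization.Integral
import Mathlib.RingTheory.Localization.BaseChange
import Mathlib.RingTheory.LocalProperties.IntegrallyClosed
import Mathlib.RingTheory.LocalProperties.Reduced
import Mathlib.RingTheory.Artinian.Ring
import Mathlib.RingTheory.Ideal.MinimalPrime.Localization
import Mathlib.RingTheory.TensorProduct.MvPolynomial

/-!
# Normal rings (all local rings integrally closed domains), no Noetherian hypothesis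
-/

set_option autoImplicit false
set_option linter.style.haveILetI false

universe u

open TensorProduct

namespace Groth.Agent.GeomFieldLib

/-- A prime avoiding `M` has the same local ring in the localisation at `M`. -/
theorem exists_localization_equiv {S T : Type u} [CommRing S] [CommRing T] [Algebra S T] (M : Submonoid S)
    [IsLocalization M T] (P : Ideal S) [P.IsPrime] (h : Disjoint (M : Set S) (P : Set S)) :
    ∃ (Q : Ideal T) (_ : Q.IsPrime), Q.comap (algebraMap S T) = P ∧
      Nonempty (Localization.AtPrime P ≃+* Localization.AtPrime Q) := by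
  let Q := P.map (algebraMap S T)
  haveI hQ : Q.IsPrime := IsLocalization.isPrime_of_isPrime_disjoint M _ P inferInstance h
  have hc : Q.comap (algebraMap S T) = P := IsLocalization.under_map_of_isPrime_disjoint M _ inferInstance h
  refine ⟨Q, hQ, hc, ?_⟩
  have hloc := IsLocalization.isLocalization_isLocalization_atPrime_isLocalization (M := M)
    (Localization.AtPrime Q) Q
  haveI : IsLocalization P.primeCompl (Localization.AtPrime Q) := by
    convert hloc using 1
    ext x
    exact not_congr (by rw [hc])
  exact ⟨(IsLocalization.algEquiv P.primeCompl (Localization.AtPrime P) (Localization.AtPrime Q)).toRingEquiv⟩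

theorem isDomain_isIC_congr {R R' : Type u} [CommRing R] [CommRing R'] (e : R ≃+* R')
    (h : IsDomain R' ∧ IsIntegrallyClosed R') : IsDomain R ∧ IsIntegrallyClosed R := by
  haveI := h.1
  haveI := h.2
  exact ⟨e.toMulEquiv.isDomain _, IsIntegrallyClosed.of_equiv e.symm⟩

/-- Normality is local: it is enough to see every prime in some normal localisation. -/
theorem isNormalRing_of_forall_exists_localization {S : Type u} [CommRing S]
    (h : ∀ (P : Ideal S) [P.IsPrime], ∃ (M : Submonoid S) (T : Type u) (_ : CommRing T) (_ : Algebra S T),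
      IsLocalization M T ∧ Disjoint (M : Set S) (P : Set S) ∧ EGA4.IsNormalRing T) :
    EGA4.IsNormalRing S := by
  intro P _
  obtain ⟨M, T, _, _, _, hd, hT⟩ := h P
  obtain ⟨Q, _, -, ⟨e⟩⟩ := exists_localization_equiv (T := T) M P hd
  exact isDomain_isIC_congr e (hT Q)

theorem isNormalRing_of_isDomain (D : Type u) [CommRing D] [IsDomain D] [IsIntegrallyClosed D] :
    EGA4.IsNormalRing D := fun P _ => by
  haveI : IsDomain (Localization.AtPrime P) :=
    IsLocalization.isDomain_localization (Ideal.primeCompl_le_nonZeroDivisors P)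
  exact ⟨inferInstance, isIntegrallyClosed_of_isLocalization _ P.primeCompl
    (Ideal.primeCompl_le_nonZeroDivisors P)⟩

theorem isReduced_of_isNormalRing {S : Type u} [CommRing S] (h : EGA4.IsNormalRing S) : IsReduced S :=
  isReduced_ofLocalizationMaximal S fun P hP => by
    haveI := (h P).1
    exact inferInstance

theorem isNormalRing_of_isArtinianRing (T : Type u) [CommRing T] [IsReduced T] [IsArtinianRing T] :
    EGA4.IsNormalRing T := fun P _ => by
  haveI : IsArtinianRing (Localization.AtPrime P) := inferInstance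
  letI := (IsArtinianRing.isField_of_isReduced_of_isLocalRing (Localization.AtPrime P)).toField
  exact ⟨inferInstance, inferInstance⟩

/-- A normal ring with finitely many minimal primes and no nontrivial idempotent is a normal domain. -/
theorem isDomain_isIC_of_connected {T : Type u} [CommRing T] [Nontrivial T] (h : EGA4.IsNormalRing T)
    (hfin : (minimalPrimes T).Finite) (hidem : ∀ e : T, IsIdempotentElem e → e = 0 ∨ e = 1) :
    IsDomain T ∧ IsIntegrallyClosed T := by
  classical
  haveI := isReduced_of_isNormalRing h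
  have hcop : ∀ P ∈ minimalPrimes T, ∀ P' ∈ minimalPrimes T, P ≠ P' → P ⊔ P' = ⊤ := by
    intro P hP P' hP' hne
    by_contra htop
    obtain ⟨m, hm, hle⟩ := Ideal.exists_le_maximal _ htop
    haveI := hP.1.1
    haveI := hP'.1.1
    haveI := (h m).1
    have key : ∀ Q : Ideal T, Q ∈ minimalPrimes T → Q ≤ m → Q.map (algebraMap T (Localization.AtPrime m)) = ⊥ := by
      intro Q hQ hQm
      haveI := hQ.1.1
      rw [eq_bot_iff, Ideal.map_le_iff_le_comap]
      haveI : (RingHom.ker (algebraMap T (Localization.AtPrime m))).IsPrime := RingHom.ker_isPrime _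
      have hker : RingHom.ker (algebraMap T (Localization.AtPrime m)) ≤ Q := by
        intro x hx
        obtain ⟨⟨s, hs⟩, hsx⟩ := (IsLocalization.map_eq_zero_iff m.primeCompl _ x).1 hx
        exact (hQ.1.1.mem_or_mem (show s * x ∈ Q by rw [show s * x = 0 from hsx]; exact Q.zero_mem)).resolve_left
          fun h' => hs (hQm h')
      exact hQ.2 ⟨inferInstance, bot_le⟩ hker
    have h1 := key P hP (le_sup_left.trans hle)
    have h2 := key P' hP' (le_sup_right.trans hle)
    have hsub : ∀ Q : Ideal T, Q ∈ minimalPrimes T → Q ≤ m → Q.map (algebraMap T (Localization.AtPrime m)) = ⊥ →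
        Q = RingHom.ker (algebraMap T (Localization.AtPrime m)) := by
      intro Q hQ hQm hQ0
      refine le_antisymm (fun x hx => ?_) fun x hx => ?_
      · exact (Submodule.mem_bot _).1 (hQ0 ▸ Ideal.mem_map_of_mem _ hx)
      · obtain ⟨⟨s, hs⟩, hsx⟩ := (IsLocalization.map_eq_zero_iff m.primeCompl _ x).1 hx
        exact (hQ.1.1.mem_or_mem (show s * x ∈ Q by rw [show s * x = 0 from hsx]; exact Q.zero_mem)).resolve_left
          fun h' => hs (hQm h')
    exact hne ((hsub P hP (le_sup_left.trans hle) h1).trans (hsub P' hP' (le_sup_right.trans hle) h2).symm)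
  obtain ⟨m₀, hm₀⟩ := Ideal.exists_maximal T
  obtain ⟨P, hP, -⟩ := Ideal.exists_minimalPrimes_le (bot_le : (⊥ : Ideal T) ≤ m₀)
  haveI hPp := hP.1.1
  let R' := (hfin.toFinset.erase P).inf id
  have hPR : P ⊔ R' = ⊤ := Ideal.sup_iInf_eq_top (s := hfin.toFinset.erase P) (J := id) (fun Q hQ => by
    obtain ⟨hne, hQ⟩ := Finset.mem_erase.1 hQ
    exact hcop P hP Q (hfin.mem_toFinset.1 hQ) hne.symm) |> fun h => by
      rw [eq_top_iff, ← h]
      exact sup_le_sup_left (le_of_eq (Finset.inf_eq_iInf _ _).symm) _
  obtain ⟨e, he, b, hb, heb⟩ := Submodule.mem_sup.1 ((Ideal.eq_top_iff_one _).1 hPR)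
  have hzero : e * b = 0 := by
    have : e * b ∈ nilradical T := by
      rw [nilradical, ← Ideal.sInf_minimalPrimes, Submodule.mem_sInf]
      intro Q hQ
      rcases eq_or_ne Q P with rfl | hne
      · exact Ideal.mul_mem_right _ Q he
      · exact Ideal.mul_mem_left Q _ ((Finset.inf_le (f := id) (Finset.mem_erase.2 ⟨hne, hfin.mem_toFinset.2 hQ⟩) :
          R' ≤ Q) hb)
    exact (mem_nilradical.1 this).eq_zero
  have hidem' : IsIdempotentElem e := by
    show e * e = e
    linear_combination (e * heb) - hzero
  have hbot : P = ⊥ := by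
    rcases hidem e hidem' with rfl | rfl
    · rw [eq_bot_iff]
      intro x hx
      have : x ∈ nilradical T := by
        rw [nilradical, ← Ideal.sInf_minimalPrimes, Submodule.mem_sInf]
        intro Q hQ
        rcases eq_or_ne Q P with rfl | hne
        · exact hx
        · have h1 : R' ≤ Q := Finset.inf_le (f := id) (Finset.mem_erase.2 ⟨hne, hfin.mem_toFinset.2 hQ⟩)
          rw [zero_add] at heb
          subst heb
          exact ((Ideal.eq_top_iff_one Q).2 (h1 hb)) ▸ Submodule.mem_top
      exact (Submodule.mem_bot _).2 (mem_nilradical.1 this).eq_zero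
    · exact absurd ((Ideal.eq_top_iff_one P).2 he) hPp.ne_top
  haveI : IsDomain T := by
    rw [hbot] at hPp
    exact IsDomain.of_bot_isPrime T
  exact ⟨inferInstance, IsIntegrallyClosed.of_localization_maximal fun m _ _ => (h m).2⟩

/-- A local ring integrally closed in a normal localisation at nonzerodivisors is a normal domain. -/
theorem isDomain_isIC_of_local {S T : Type u} [CommRing S] [IsLocalRing S] [CommRing T] [Algebra S T]
    (M : Submonoid S) [IsLocalization M T] (hinj : Function.Injective (algebraMap S T))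
    (hT : EGA4.IsNormalRing T) (hfin : (minimalPrimes T).Finite)
    (hIC : ∀ x : T, IsIntegral S x → ∃ y, algebraMap S T y = x) :
    IsDomain S ∧ IsIntegrallyClosed S := by
  haveI : Nontrivial T := hinj.nontrivial
  obtain ⟨hd, hic⟩ := isDomain_isIC_of_connected hT hfin fun e he => by
    obtain ⟨y, rfl⟩ := hIC e ⟨Polynomial.X ^ 2 - Polynomial.X,
      Polynomial.monic_X_pow_sub (by simp [Polynomial.degree_X]), by simp [sq, he.eq]⟩
    have : IsIdempotentElem y := hinj (by rw [map_mul]; exact he)
    rcases IsLocalRing.isUnit_or_isUnit_one_sub_self y with hu | hu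
    · right
      rw [(IsUnit.mul_eq_left hu).1 this.eq, map_one]
    · left
      have h0 : (1 - y) * y = 0 := by rw [sub_mul, one_mul, this.eq, sub_self]
      rw [hu.mul_right_eq_zero.1 h0, map_zero]
  haveI := hd
  haveI := hic
  haveI : IsDomain S := hinj.isDomain _
  refine ⟨inferInstance, ?_⟩
  haveI : FaithfulSMul S T := (faithfulSMul_iff_algebraMap_injective S T).2 hinj
  haveI : IsIntegrallyClosedIn S T :=
    isIntegrallyClosedIn_iff.mpr ⟨hinj, fun {x} hx => hIC x hx⟩
  exact IsIntegrallyClosed.of_isIntegrallyClosed_of_isIntegrallyClosedIn S T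

/-- A ring integrally closed in a normal localisation with finitely many minimal primes is normal. -/
theorem isNormalRing_of_isIntegrallyClosedIn {S T : Type u} [CommRing S] [CommRing T] [Algebra S T]
    (M : Submonoid S) [IsLocalization M T] (hinj : Function.Injective (algebraMap S T))
    (hT : EGA4.IsNormalRing T) (hfin : (minimalPrimes T).Finite)
    (hIC : ∀ x : T, IsIntegral S x → ∃ y, algebraMap S T y = x) : EGA4.IsNormalRing S := by
  intro P _
  let SP := Localization.AtPrime P
  let N := Algebra.algebraMapSubmonoid T P.primeCompl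
  let TP := Localization N
  haveI : IsLocalization (P.primeCompl.map (algebraMap S T)) TP :=
    inferInstanceAs (IsLocalization N (Localization N))
  letI : Algebra SP TP := (IsLocalization.map TP (algebraMap S T)
    (Submonoid.le_comap_map P.primeCompl) : SP →+* TP).toAlgebra
  haveI : IsScalarTower S SP TP := IsScalarTower.of_algebraMap_eq fun x => by
    rw [RingHom.algebraMap_toAlgebra, IsLocalization.map_eq, ← IsScalarTower.algebraMap_apply]
  haveI : IsLocalization (Algebra.algebraMapSubmonoid SP M) TP :=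
    IsLocalization.commutes SP T TP P.primeCompl M
  refine isDomain_isIC_of_local (Algebra.algebraMapSubmonoid SP M) ?_
    (EGA4Lib.isNormalRing_of_isLocalization (R' := TP) N hT) ?_ fun x hx => ?_
  · refine (injective_iff_map_eq_zero _).2 fun z hz => ?_
    obtain ⟨⟨a, s⟩, ha⟩ := IsLocalization.surj P.primeCompl z
    have h1 : algebraMap T TP (algebraMap S T a) = 0 := by
      rw [← IsScalarTower.algebraMap_apply, IsScalarTower.algebraMap_apply S SP TP, ← ha, map_mul, hz, zero_mul]
    obtain ⟨⟨_, c, hc, rfl⟩, hca⟩ := (IsLocalization.map_eq_zero_iff N TP _).1 h1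
    rw [← map_mul] at hca
    have h2 : algebraMap S SP a = 0 := (IsLocalization.map_eq_zero_iff P.primeCompl SP a).2
      ⟨⟨c, hc⟩, hinj (hca.trans (map_zero _).symm)⟩
    rw [← ha] at h2
    exact (IsLocalization.map_units SP s).mul_left_eq_zero.1 h2
  · refine (hfin.subset ?_).of_finite_image (f := fun Q : Ideal TP => Q.comap (algebraMap T TP)) ?_
    · rintro _ ⟨Q, hQ, rfl⟩
      have hQ' : Q ∈ ((⊥ : Ideal T).map (algebraMap T TP)).minimalPrimes := by
        rw [Ideal.map_bot]; exact hQ
      rw [IsLocalization.minimalPrimes_map N TP ⊥] at hQ'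
      exact hQ'
    · intro Q _ Q' _ hQQ'
      rw [← IsLocalization.map_under N TP Q, ← IsLocalization.map_under N TP Q']
      exact congrArg _ hQQ'
  · obtain ⟨⟨s, hs⟩, hsx⟩ := IsIntegral.exists_multiple_integral_of_isLocalization P.primeCompl x hx
    obtain ⟨⟨t, n⟩, ht⟩ := IsLocalization.surj N x
    obtain ⟨c, hc, hcn⟩ := n.2
    have h1 : IsIntegral S (algebraMap T TP (algebraMap S T s * t)) := by
      rw [map_mul, ← ht, ← IsScalarTower.algebraMap_apply, ← mul_assoc, ← Algebra.smul_def, ← hcn,
        ← IsScalarTower.algebraMap_apply]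
      exact hsx.mul isIntegral_algebraMap
    obtain ⟨p, hp, hpe⟩ := h1
    rw [IsScalarTower.algebraMap_eq S T TP, ← Polynomial.hom_eval₂] at hpe
    obtain ⟨⟨_, w, hw, rfl⟩, hwe⟩ := (IsLocalization.map_eq_zero_iff N TP _).1 hpe
    have h2 : IsIntegral S (algebraMap S T w * (algebraMap S T s * t)) := by
      rcases Nat.eq_zero_or_pos p.natDegree with h0 | h0
      · have : p = 1 := hp.natDegree_eq_zero.1 h0
        rw [this, Polynomial.eval₂_one, mul_one] at hwe
        rw [show algebraMap S T w = 0 from hwe, zero_mul]; exact isIntegral_zero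
      · refine ⟨p.scaleRoots w, (Polynomial.monic_scaleRoots_iff w).2 hp, ?_⟩
        rw [Polynomial.scaleRoots_eval₂_mul]
        obtain ⟨d, hd⟩ := Nat.exists_eq_add_of_le (Nat.one_le_iff_ne_zero.2 h0.ne')
        rw [hd, pow_add, pow_one, mul_comm (algebraMap S T w), mul_assoc, hwe, mul_zero]
    obtain ⟨y, hy⟩ := hIC _ h2
    have hu : IsUnit (algebraMap S TP (w * s * c)) := by
      rw [IsScalarTower.algebraMap_apply S SP TP]
      exact (IsLocalization.map_units SP (⟨w * s * c, mul_mem (mul_mem hw hs) hc⟩ : P.primeCompl)).map _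
    refine ⟨IsLocalization.mk' SP y (⟨w * s * c, mul_mem (mul_mem hw hs) hc⟩ : P.primeCompl), ?_⟩
    apply hu.mul_left_injective
    show algebraMap SP TP _ * _ = x * _
    rw [IsScalarTower.algebraMap_apply S SP TP, ← map_mul]
    rw [show IsLocalization.mk' SP y (⟨w * s * c, mul_mem (mul_mem hw hs) hc⟩ : P.primeCompl) *
      algebraMap S SP (w * s * c) = algebraMap S SP y from IsLocalization.mk'_spec SP _ _,
      ← IsScalarTower.algebraMap_apply, IsScalarTower.algebraMap_apply S T TP, hy, ← IsScalarTower.algebraMap_apply]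
    simp only [map_mul, ← IsScalarTower.algebraMap_apply]
    rw [← ht, ← hcn, ← IsScalarTower.algebraMap_apply]
    ring

/-- A directed union of normal rings is normal. -/
theorem isNormalRing_of_forall_exists_map {R : Type u} [CommRing R]
    (h : ∀ s : Finset R, ∃ (R0 : Type u) (_ : CommRing R0) (φ : R0 →+* R),
      Function.Injective φ ∧ EGA4.IsNormalRing R0 ∧ ∀ x ∈ s, ∃ y, φ y = x) :
    EGA4.IsNormalRing R := by
  classical
  intro P _
  let L := Localization.AtPrime P
  haveI hnt : Nontrivial L := inferInstance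
  have hdom : IsDomain L := by
    haveI : NoZeroDivisors L := ⟨fun {z z'} hzz => by
      obtain ⟨⟨a, s⟩, ha⟩ := IsLocalization.surj P.primeCompl z
      obtain ⟨⟨b, t⟩, hb⟩ := IsLocalization.surj P.primeCompl z'
      obtain ⟨⟨v, hv⟩, hvab⟩ := (IsLocalization.map_eq_zero_iff P.primeCompl L (a * b)).1 (by
        rw [map_mul, ← ha, ← hb]; linear_combination (algebraMap R L s * algebraMap R L t) * hzz)
      obtain ⟨R0, _, φ, hφ, hn, hs⟩ := h {a, b, v}
      obtain ⟨a0, ha0⟩ := hs a (by simp)
      obtain ⟨b0, hb0⟩ := hs b (by simp)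
      obtain ⟨v0, hv0⟩ := hs v (by simp)
      have h0 : v0 * (a0 * b0) = 0 := hφ (by rw [map_mul, map_mul, map_zero, ha0, hb0, hv0]; exact hvab)
      haveI := (hn (P.comap φ)).1
      have hv0P : v0 ∉ P.comap φ := fun hh => hv (by have := Ideal.mem_comap.1 hh; rwa [hv0] at this)
      have h1 : algebraMap R0 (Localization.AtPrime (P.comap φ)) a0 *
          algebraMap R0 (Localization.AtPrime (P.comap φ)) b0 = 0 := by
        rw [← map_mul]
        exact (IsLocalization.map_eq_zero_iff (P.comap φ).primeCompl _ _).2 ⟨⟨v0, hv0P⟩, h0⟩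
      have hmap : ∀ r, algebraMap R0 (Localization.AtPrime (P.comap φ)) r = 0 → algebraMap R L (φ r) = 0 :=
        fun r hr => by
          rw [← Localization.localRingHom_to_map (P.comap φ) P φ rfl r, hr, map_zero]
      rcases mul_eq_zero.1 h1 with h1 | h1
      · left
        have := hmap _ h1
        rw [ha0, ← ha] at this
        exact (IsLocalization.map_units L s).mul_left_eq_zero.1 this
      · right
        have := hmap _ h1
        rw [hb0, ← hb] at this
        exact (IsLocalization.map_units L t).mul_left_eq_zero.1 this⟩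
    exact NoZeroDivisors.to_isDomain L
  haveI := hdom
  refine ⟨hdom, (isIntegrallyClosed_iff (FractionRing L)).2 fun {x} hx => ?_⟩
  let K := FractionRing L
  obtain ⟨z, w, hw, rfl⟩ := IsFractionRing.div_surjective L x
  obtain ⟨⟨a, s⟩, ha⟩ := IsLocalization.surj P.primeCompl z
  obtain ⟨⟨b, t⟩, hb⟩ := IsLocalization.surj P.primeCompl w
  have hw0 : algebraMap L K w ≠ 0 := IsFractionRing.to_map_ne_zero_of_mem_nonZeroDivisors hw
  -- `x = (a t) / (b s)`
  obtain ⟨p, hp, hpe⟩ := hx
  obtain ⟨⟨d, hd⟩, hdp⟩ := IsLocalization.exist_integer_multiples_of_finset P.primeCompl p.coeffs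
  set n := p.natDegree with hn'
  have hcoef : ∀ i, ∃ r : R, algebraMap R L r = algebraMap R L d * p.coeff i := fun i => by
    by_cases hi : p.coeff i = 0
    · exact ⟨0, by rw [hi, mul_zero, map_zero]⟩
    · obtain ⟨r, hr⟩ := hdp (p.coeff i) (Polynomial.coeff_mem_coeffs hi)
      exact ⟨r, by rw [hr, Algebra.smul_def]⟩
  choose r hr using hcoef
  let A' := a * (t : R)
  let B' := b * (s : R)
  have hxeq : algebraMap L K z / algebraMap L K w * algebraMap R K B' = algebraMap R K A' := by
    rw [IsScalarTower.algebraMap_apply R L K B', IsScalarTower.algebraMap_apply R L K A', map_mul (algebraMap R L),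
      map_mul (algebraMap R L), ← ha, ← hb]
    simp only [map_mul]
    rw [div_mul_eq_mul_div, div_eq_iff hw0]
    ring
  have hsum : algebraMap R L (∑ i ∈ Finset.range (n + 1), r i * A' ^ i * B' ^ (n - i)) = 0 := by
    apply IsFractionRing.injective L K
    rw [map_zero, map_sum, map_sum]
    have h1 : algebraMap R K d * algebraMap R K B' ^ n *
        p.eval₂ (algebraMap L K) (algebraMap L K z / algebraMap L K w) = 0 := by rw [hpe, mul_zero]
    rw [Polynomial.eval₂_eq_sum_range, ← hn', Finset.mul_sum] at h1
    rw [← h1]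
    refine Finset.sum_congr rfl fun i hi => ?_
    have hin : i ≤ n := Nat.lt_succ_iff.1 (Finset.mem_range.1 hi)
    simp only [map_mul, map_pow, ← IsScalarTower.algebraMap_apply]
    rw [IsScalarTower.algebraMap_apply R L K (r i), hr, map_mul, ← IsScalarTower.algebraMap_apply, ← hxeq,
      mul_pow, ← pow_sub_mul_pow (algebraMap R K B') hin]
    ring
  obtain ⟨⟨v, hv⟩, hvs⟩ := (IsLocalization.map_eq_zero_iff P.primeCompl L _).1 hsum
  obtain ⟨R0, _, φ, hφ, hn, hs⟩ := h ({A', B', v} ∪ (Finset.range (n + 1)).image r)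
  obtain ⟨A0, hA0⟩ := hs A' (by simp)
  obtain ⟨B0, hB0⟩ := hs B' (by simp)
  obtain ⟨v0, hv0⟩ := hs v (by simp)
  have hr0 : ∀ i ∈ Finset.range (n + 1), ∃ y, φ y = r i := fun i hi =>
    hs _ (Finset.mem_union_right _ (Finset.mem_image_of_mem r hi))
  choose! r0 hr0 using hr0
  let L0 := Localization.AtPrime (P.comap φ)
  haveI := (hn (P.comap φ)).1
  haveI := (hn (P.comap φ)).2
  have h0 : v0 * ∑ i ∈ Finset.range (n + 1), r0 i * A0 ^ i * B0 ^ (n - i) = 0 := hφ (by
    rw [map_mul, map_sum, map_zero, hv0]
    refine Eq.trans ?_ hvs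
    congr 1
    refine Finset.sum_congr rfl fun i hi => ?_
    rw [map_mul, map_mul, map_pow, map_pow, hA0, hB0, hr0 i hi])
  have hv0P : v0 ∉ P.comap φ := fun hh => hv (by have := Ideal.mem_comap.1 hh; rwa [hv0] at this)
  have h1 : ∑ i ∈ Finset.range (n + 1), algebraMap R0 L0 (r0 i) * algebraMap R0 L0 A0 ^ i *
      algebraMap R0 L0 B0 ^ (n - i) = 0 := by
    have := (IsLocalization.map_eq_zero_iff (P.comap φ).primeCompl L0 _).2 ⟨⟨v0, hv0P⟩, h0⟩
    simpa [map_sum] using this
  let ψ : L0 →+* L := Localization.localRingHom (P.comap φ) P φ rfl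
  have hψ : ∀ y, ψ (algebraMap R0 L0 y) = algebraMap R L (φ y) := Localization.localRingHom_to_map _ _ _ _
  have hBL : algebraMap R L B' ≠ 0 := by
    rw [map_mul, ← hb]
    exact mul_ne_zero (mul_ne_zero (nonZeroDivisors.ne_zero hw) (IsLocalization.map_units L t).ne_zero)
      (IsLocalization.map_units L s).ne_zero
  have hB00 : algebraMap R0 L0 B0 ≠ 0 := fun e => hBL (by rw [← hB0, ← hψ, e, map_zero])
  have hlead : IsUnit (algebraMap R0 L0 (r0 n)) := by
    have hn1 : n ∈ Finset.range (n + 1) := Finset.self_mem_range_succ n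
    refine IsLocalization.map_units L0 (⟨r0 n, fun hh => ?_⟩ : (P.comap φ).primeCompl)
    have h2 : r n ∈ P := by have := Ideal.mem_comap.1 hh; rwa [hr0 n hn1] at this
    have h3 : algebraMap R L (r n) = algebraMap R L d := by
      rw [hr, show p.coeff n = 1 from hp.coeff_natDegree, mul_one]
    have h4 := (IsLocalization.AtPrime.to_map_mem_maximal_iff L P (r n)).2 h2
    rw [h3, IsLocalization.AtPrime.to_map_mem_maximal_iff L P] at h4
    exact hd h4
  let K0 := FractionRing L0
  obtain ⟨u, hu⟩ := hlead
  have hint : IsIntegral L0 (algebraMap L0 K0 (algebraMap R0 L0 A0) / algebraMap L0 K0 (algebraMap R0 L0 B0)) := by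
    refine ⟨Polynomial.X ^ n + ∑ i ∈ Finset.range n, Polynomial.C (↑u⁻¹ * algebraMap R0 L0 (r0 i)) * Polynomial.X ^ i,
      ?_, ?_⟩
    · refine Polynomial.monic_X_pow_add ((Polynomial.degree_sum_le _ _).trans_lt ?_)
      refine (Finset.sup_lt_iff (WithBot.bot_lt_coe n)).2 fun i hi => ?_
      exact (Polynomial.degree_C_mul_X_pow_le i _).trans_lt (WithBot.coe_lt_coe.2 (Finset.mem_range.1 hi))
    · have hBK : algebraMap L0 K0 (algebraMap R0 L0 B0) ≠ 0 :=
        fun e => hB00 (IsFractionRing.injective L0 K0 (e.trans (map_zero _).symm))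
      have hk : algebraMap L0 K0 (↑u⁻¹) * (∑ i ∈ Finset.range (n + 1), algebraMap L0 K0 (algebraMap R0 L0 (r0 i)) *
          algebraMap L0 K0 (algebraMap R0 L0 A0) ^ i *
          algebraMap L0 K0 (algebraMap R0 L0 B0) ^ (n - i)) = 0 := by
        have := congrArg (algebraMap L0 K0) h1
        rw [map_zero, map_sum] at this
        simp only [map_mul, map_pow] at this
        rw [this, mul_zero]
      apply mul_left_cancel₀ (pow_ne_zero n hBK)
      rw [mul_zero, ← hk, Polynomial.eval₂_add, Polynomial.eval₂_finsetSum, Polynomial.eval₂_X_pow,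
        Finset.sum_range_succ, Nat.sub_self, pow_zero, mul_one, mul_add, mul_add, add_comm]
      congr 1
      · rw [Finset.mul_sum, Finset.mul_sum]
        refine Finset.sum_congr rfl fun i hi => ?_
        rw [Polynomial.eval₂_mul, Polynomial.eval₂_C, Polynomial.eval₂_X_pow, map_mul, div_pow,
          ← pow_sub_mul_pow (algebraMap L0 K0 (algebraMap R0 L0 B0)) (Finset.mem_range.1 hi).le]
        linear_combination ((algebraMap L0 K0 (algebraMap R0 L0 B0)) ^ (n - i) *
          (algebraMap L0 K0 ↑u⁻¹ * algebraMap L0 K0 (algebraMap R0 L0 (r0 i)))) *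
          (div_mul_cancel₀ (algebraMap L0 K0 (algebraMap R0 L0 A0) ^ i) (pow_ne_zero i hBK))
      · rw [← hu, ← mul_assoc, ← map_mul, Units.inv_mul, map_one, one_mul, div_pow]
        exact mul_div_cancel₀ _ (pow_ne_zero n hBK)
  obtain ⟨y, hy⟩ := IsIntegrallyClosed.algebraMap_eq_of_integral hint
  have hy' : algebraMap R0 L0 A0 = y * algebraMap R0 L0 B0 := by
    apply IsFractionRing.injective L0 K0
    rw [map_mul, hy, div_mul_cancel₀]
    exact fun e => hB00 (IsFractionRing.injective L0 K0 (e.trans (map_zero _).symm))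
  refine ⟨ψ y, ?_⟩
  have h5 : algebraMap R L A' = ψ y * algebraMap R L B' := by
    rw [← hA0, ← hB0, ← hψ, ← hψ, hy', map_mul]
  have hBK : algebraMap R K B' ≠ 0 := by
    rw [IsScalarTower.algebraMap_apply R L K]
    exact fun e => hBL (IsFractionRing.injective L K (e.trans (map_zero _).symm))
  apply mul_right_cancel₀ hBK
  rw [hxeq, IsScalarTower.algebraMap_apply R L K A', h5, IsScalarTower.algebraMap_apply R L K B', ← map_mul]

theorem isNormalRing_polynomial {R : Type u} [CommRing R] (h : EGA4.IsNormalRing R) :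
    EGA4.IsNormalRing (Polynomial R) := by
  refine isNormalRing_of_forall_exists_localization fun Q _ => ?_
  let P := Q.comap Polynomial.C
  haveI := (h P).1
  haveI := (h P).2
  letI : Algebra (Polynomial R) (Polynomial (Localization.AtPrime P)) :=
    (Polynomial.mapRingHom (algebraMap R (Localization.AtPrime P))).toAlgebra
  haveI : IsLocalization (P.primeCompl.map Polynomial.C) (Polynomial (Localization.AtPrime P)) :=
    Polynomial.isLocalization P.primeCompl (Localization.AtPrime P)
  refine ⟨P.primeCompl.map Polynomial.C, Polynomial (Localization.AtPrime P), inferInstance, inferInstance,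
    inferInstance, ?_, isNormalRing_of_isDomain _⟩
  rw [Set.disjoint_left]
  rintro _ ⟨c, hc, rfl⟩ hcQ
  exact hc hcQ

theorem isNormalRing_mvPolynomial {R : Type u} [CommRing R] (h : EGA4.IsNormalRing R) (ι : Type u) [Finite ι] :
    EGA4.IsNormalRing (MvPolynomial ι R) := by
  induction ι using Finite.induction_empty_option with
  | of_equiv e H => exact EGA4Lib.isNormalRing_of_ringEquiv (MvPolynomial.renameEquiv R e).toRingEquiv H
  | h_empty => exact EGA4Lib.isNormalRing_of_ringEquiv (MvPolynomial.isEmptyRingEquiv R PEmpty).symm h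
  | h_option H =>
    exact EGA4Lib.isNormalRing_of_ringEquiv (MvPolynomial.optionEquivLeft R _).toRingEquiv.symm
      (isNormalRing_polynomial H)

end Groth.Agent.GeomFieldLib
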