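import Groth.Agent.GeomFieldLib.ICTensor
import Groth.Agent.GeomFieldLib.Corollaries

/-!
# Normality is preserved by normal base change (EGA IV 6.14.1)
-/

set_option autoImplicit false
set_option linter.style.haveILetI false

universe u

open TensorProduct

namespace Groth.Agent.GeomFieldLib

variable {A : Type u} [CommRing A] {A' : Type u} [CommRing A'] [Algebra A A']

/-- A fibre of a normal homomorphism over any field is normal. -/
theorem isNormalRing_field_tensor (h : EGA4.IsNormalHom A A') (K : Type u) [Field K] [Algebra A K] :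
    EGA4.IsNormalRing (K ⊗[A] A') := by
  let p := RingHom.ker (algebraMap A K)
  haveI : p.IsPrime := RingHom.ker_isPrime _
  let θ : p.ResidueField →+* K := IsFractionRing.lift (g := Ideal.Quotient.lift p (algebraMap A K) fun a ha => ha)
    (RingHom.lift_injective_of_ker_le_ideal _ _ le_rfl)
  letI : Algebra p.ResidueField K := θ.toAlgebra
  haveI : IsScalarTower A p.ResidueField K := IsScalarTower.of_algebraMap_eq fun a => by
    show _ = θ (algebraMap A p.ResidueField a)
    rw [IsScalarTower.algebraMap_apply A (A ⧸ p) p.ResidueField, Ideal.Quotient.algebraMap_eq]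
    show _ = IsFractionRing.lift _ _
    rw [IsFractionRing.lift_algebraMap, Ideal.Quotient.lift_mk]
  exact EGA4Lib.isNormalRing_of_ringEquiv
    (Algebra.TensorProduct.cancelBaseChange A p.ResidueField K K A').toRingEquiv
    (isNormalRing_tensor_of_isGeomNormal p.ResidueField _ (h.2 p) K)

theorem isReduced_field_tensor (h : EGA4.IsNormalHom A A') (K : Type u) [Field K] [Algebra A K] :
    IsReduced (K ⊗[A] A') :=
  isReduced_of_isNormalRing (isNormalRing_field_tensor h K)

theorem isNormalRing_baseChange_frac [IsNoetherianRing A] [IsNoetherianRing A'] (h : EGA4.IsNormalHom A A')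
    (L : Type u) [Field L] [Algebra A L] [Algebra.EssFiniteType A L] (B : Type u) [CommRing B] [IsDomain B]
    [IsIntegrallyClosed B] [Algebra A B] [Algebra B L] [IsScalarTower A B L] [IsFractionRing B L] :
    EGA4.IsNormalRing (B ⊗[A] A') := by
  classical
  haveI := h.1
  let ι := IsScalarTower.toAlgHom A B L
  let φ := Algebra.TensorProduct.map ι (AlgHom.id A A')
  letI : Algebra (B ⊗[A] A') (L ⊗[A] A') := φ.toRingHom.toAlgebra
  haveI : IsScalarTower B (B ⊗[A] A') (L ⊗[A] A') :=
    IsScalarTower.of_algebraMap_eq (R := B) (S := B ⊗[A] A') (A := L ⊗[A] A') fun a => by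
      simp [RingHom.algebraMap_toAlgebra, φ, ι]
  haveI := IsLocalization.tensorProduct_tensorProduct A A' (nonZeroDivisors B) L (by
    ext l; simp [RingHom.algebraMap_toAlgebra, φ, ι])
  have hinj : Function.Injective φ :=
    Module.Flat.rTensor_preserves_injective_linearMap (M := A') ι.toLinearMap (IsFractionRing.injective B L)
  haveI : IsNoetherianRing (A' ⊗[A] L) := Algebra.EssFiniteType.isNoetherianRing A' (A' ⊗[A] L)
  haveI : IsNoetherianRing (L ⊗[A] A') :=
    isNoetherianRing_of_ringEquiv _ (Algebra.TensorProduct.comm A A' L).toRingEquiv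
  refine isNormalRing_of_isIntegrallyClosedIn (T := L ⊗[A] A')
    (Algebra.algebraMapSubmonoid (B ⊗[A] A') (nonZeroDivisors B)) hinj (isNormalRing_field_tensor h L)
    (minimalPrimes.finite_of_isNoetherianRing _) fun x hx => ?_
  obtain ⟨p, hp, hpx⟩ := hx
  have hmem : ∀ u : B ⊗[A] A', ∃ c : Finset B, ∀ D : Subalgebra A B, (c : Set B) ⊆ D →
      ∃ v : D ⊗[A] A', Algebra.TensorProduct.map D.val (AlgHom.id A A') v = u := fun u => by
    obtain ⟨S, rfl⟩ := TensorProduct.exists_finset u
    refine ⟨S.image Prod.fst, fun D hD => ⟨∑ i ∈ S.attach,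
      (⟨i.1.1, hD (Finset.mem_image_of_mem _ i.2)⟩ : D) ⊗ₜ i.1.2, ?_⟩⟩
    rw [map_sum, ← Finset.sum_attach S]
    rfl
  choose c hc using hmem
  let D := Algebra.adjoin A ((((Finset.range (p.natDegree + 1)).image p.coeff).biUnion c : Finset B) : Set B)
  haveI : Algebra.FiniteType A D := (Subalgebra.fg_iff_finiteType D).mp (Subalgebra.fg_adjoin_finset _)
  haveI : IsNoetherianRing D := Algebra.FiniteType.isNoetherianRing A D
  let ψ := Algebra.TensorProduct.map D.val (AlgHom.id A A')
  have hlift : p ∈ Polynomial.lifts ψ.toRingHom := (Polynomial.lifts_iff_coeff_lifts _).2 fun i => by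
    rcases Nat.lt_or_ge i (p.natDegree + 1) with hi | hi
    · exact hc (p.coeff i) D (fun z hz => Algebra.subset_adjoin
        (Finset.mem_biUnion.2 ⟨p.coeff i, Finset.mem_image_of_mem _ (Finset.mem_range.2 hi), hz⟩))
    · exact ⟨0, by rw [map_zero, Polynomial.coeff_eq_zero_of_natDegree_lt (by omega)]⟩
  obtain ⟨q, hq, -, hqm⟩ := Polynomial.lifts_and_natDegree_eq_and_monic hlift hp
  have hxD : (Algebra.TensorProduct.map (IsScalarTower.toAlgHom A D L) (AlgHom.id A A')).toRingHom.IsIntegralElem x := by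
    refine ⟨q, hqm, ?_⟩
    have hψ : (Algebra.TensorProduct.map (IsScalarTower.toAlgHom A D L) (AlgHom.id A A')).toRingHom =
        φ.toRingHom.comp ψ.toRingHom := by
      refine RingHom.ext fun u => ?_
      induction u using TensorProduct.induction_on with
      | zero => simp
      | tmul a c => rfl
      | add a c ha hc => simp only [map_add, ha, hc]
    rw [hψ, ← Polynomial.eval₂_map, hq]
    exact hpx
  obtain ⟨u, rfl⟩ := mem_tensorImage_of_integral (isReduced_field_tensor h) (D := D) x hxD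
  clear hxD hpx
  induction u using TensorProduct.induction_on with
  | zero => exact ⟨0, by simp⟩
  | tmul a c =>
    obtain ⟨b, hb⟩ := IsIntegrallyClosed.algebraMap_eq_of_integral (R := B) (K := L) (x := (a : L))
      (IsIntegral.tower_top (R := D) a.2)
    exact ⟨b ⊗ₜ c, congrArg (· ⊗ₜ[A] c) hb⟩
  | add a c ha hc =>
    obtain ⟨u, hu⟩ := ha
    obtain ⟨v, hv⟩ := hc
    exact ⟨u + v, by rw [map_add, hu, hv, map_add]⟩

theorem isNormalRing_baseChange_domain [IsNoetherianRing A] [IsNoetherianRing A'] (h : EGA4.IsNormalHom A A')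
    (B : Type u) [CommRing B] [IsDomain B] [IsIntegrallyClosed B] [Algebra A B] :
    EGA4.IsNormalRing (B ⊗[A] A') := by
  classical
  haveI := h.1
  let L := FractionRing B
  let ι := algebraMap B L
  have hinj : Function.Injective ι := IsFractionRing.injective B L
  refine isNormalRing_of_forall_exists_map fun s => ?_
  have hmem : ∀ x : B ⊗[A] A', ∃ c : Finset B, ∀ B₀ : Subalgebra A B, (c : Set B) ⊆ B₀ →
      ∃ y : B₀ ⊗[A] A', Algebra.TensorProduct.map B₀.val (AlgHom.id A A') y = x := fun x => by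
    obtain ⟨S, rfl⟩ := TensorProduct.exists_finset x
    refine ⟨S.image Prod.fst, fun B₀ hE => ⟨∑ i ∈ S.attach,
      (⟨i.1.1, hE (Finset.mem_image_of_mem _ i.2)⟩ : B₀) ⊗ₜ i.1.2, ?_⟩⟩
    rw [map_sum, ← Finset.sum_attach S]
    rfl
  choose c hc using hmem
  let D := Algebra.adjoin A ((s.biUnion c : Finset B) : Set B)
  haveI : Algebra.FiniteType A D := (Subalgebra.fg_iff_finiteType D).mp (Subalgebra.fg_adjoin_finset _)
  let F : Subfield L := Subfield.closure (ι '' D)
  let B₀ : Subalgebra A B :=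
    { (F.toSubring.comap ι).toSubsemiring with
      algebraMap_mem' := fun a => Subfield.subset_closure ⟨algebraMap A B a, D.algebraMap_mem a, rfl⟩ }
  have hDB : D ≤ B₀ := fun d hd => Subfield.subset_closure ⟨d, hd, rfl⟩
  letI : Algebra B₀ F := ((ι.comp B₀.val.toRingHom).codRestrict F fun z => z.2).toAlgebra
  letI : Algebra A F := ((algebraMap B₀ F).comp (algebraMap A B₀)).toAlgebra
  haveI : IsScalarTower A B₀ F := IsScalarTower.of_algebraMap_eq fun _ => rfl
  have hclosure : ∀ z : L, z ∈ Subring.closure (ι '' D) → ∃ d ∈ D, ι d = z := fun z hz => by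
    have : Subring.closure (ι '' (D : Set B)) ≤ D.toSubring.map ι := Subring.closure_le.2 fun w hw => hw
    exact this hz
  have hinj₀ : Function.Injective (algebraMap B₀ F) := fun a d e =>
    Subtype.ext (hinj (congrArg Subtype.val e))
  have hfr : ∀ e : F, ∃ a d : D, ι d ≠ 0 ∧ (e : L) * ι d = ι a := fun e => by
    obtain ⟨r, hr, t, ht, hrt⟩ := Subfield.mem_closure_iff.1 e.2
    obtain ⟨r', hr', rfl⟩ := hclosure r hr
    obtain ⟨t', ht', rfl⟩ := hclosure t ht
    by_cases ht0 : ι t' = 0
    · exact ⟨0, 1, by simp [ι], by rw [← hrt, ht0, div_zero, zero_mul]; simp [ι]⟩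
    · exact ⟨⟨r', hr'⟩, ⟨t', ht'⟩, ht0, by rw [← hrt, div_mul_cancel₀ _ ht0]⟩
  haveI : IsFractionRing B₀ F := by
    refine (isLocalization_iff _ _).2 ⟨fun y => IsUnit.mk0 _ fun e => nonZeroDivisors.ne_zero y.2
      (hinj₀ (e.trans (map_zero _).symm)), fun e => ?_, fun {x y} e => ⟨1, by rw [hinj₀ e]⟩⟩
    obtain ⟨a, d, hd, he⟩ := hfr e
    exact ⟨(⟨a, hDB a.2⟩, ⟨⟨d, hDB d.2⟩, mem_nonZeroDivisors_of_ne_zero fun e' => hd
      (by rw [show (d : B) = 0 from congrArg Subtype.val e', map_zero])⟩), Subtype.ext he⟩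
  haveI : IsIntegrallyClosed B₀ := (isIntegrallyClosed_iff F).2 fun {e} he => by
    obtain ⟨p, hp, hpe⟩ := he
    obtain ⟨w, hw⟩ := IsIntegrallyClosed.algebraMap_eq_of_integral (R := B) (K := L) (x := (e : L))
      ⟨p.map B₀.val.toRingHom, hp.map _, by
        rw [Polynomial.eval₂_map, show (algebraMap B L).comp B₀.val.toRingHom =
          F.subtype.comp (algebraMap B₀ F) from RingHom.ext fun z => rfl]
        have := congrArg F.subtype hpe
        rwa [Polynomial.hom_eval₂, map_zero] at this⟩
    exact ⟨⟨w, show ι w ∈ F from hw ▸ e.2⟩, Subtype.ext hw⟩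
  letI : Algebra D F := ((algebraMap B₀ F).comp (Subalgebra.inclusion hDB).toRingHom).toAlgebra
  haveI : IsScalarTower A D F := IsScalarTower.of_algebraMap_eq fun _ => rfl
  haveI : IsFractionRing D F := by
    have hinj₁ : Function.Injective (algebraMap D F) := hinj₀.comp (Subalgebra.inclusion_injective hDB)
    refine (isLocalization_iff _ _).2 ⟨fun y => IsUnit.mk0 _ fun e => nonZeroDivisors.ne_zero y.2
      (hinj₁ (e.trans (map_zero _).symm)), fun e => ?_, fun {x y} e => ⟨1, by rw [hinj₁ e]⟩⟩
    obtain ⟨a, d, hd, he⟩ := hfr e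
    exact ⟨(a, ⟨d, mem_nonZeroDivisors_of_ne_zero fun e' => hd (by rw [e']; exact map_zero ι)⟩), Subtype.ext he⟩
  haveI : Algebra.EssFiniteType D F := Algebra.EssFiniteType.of_isLocalization F (nonZeroDivisors D)
  haveI : Algebra.EssFiniteType A F := Algebra.EssFiniteType.comp A D F
  exact ⟨↥B₀ ⊗[A] A', inferInstance, (Algebra.TensorProduct.map B₀.val (AlgHom.id A A')).toRingHom,
    Module.Flat.rTensor_preserves_injective_linearMap (M := A') B₀.val.toLinearMap Subtype.val_injective,
    isNormalRing_baseChange_frac h F B₀, fun x hx => hc x B₀ fun z hz =>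
      hDB (Algebra.subset_adjoin (Finset.mem_biUnion.2 ⟨x, hx, hz⟩))⟩

/-- EGA IV 6.14.1. -/
theorem isNormalRing_baseChange [IsNoetherianRing A] [IsNoetherianRing A'] (h : EGA4.IsNormalHom A A')
    (B : Type u) [CommRing B] [Algebra A B] (hB : EGA4.IsNormalRing B) : EGA4.IsNormalRing (A' ⊗[A] B) := by
  refine EGA4Lib.isNormalRing_of_ringEquiv (Algebra.TensorProduct.comm A B A').toRingEquiv
    (isNormalRing_of_forall_exists_localization fun P _ => ?_)
  let q := P.comap (algebraMap B (B ⊗[A] A'))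
  let Bq := Localization.AtPrime q
  let f := Algebra.TensorProduct.map (IsScalarTower.toAlgHom A B Bq) (AlgHom.id A A')
  letI : Algebra (B ⊗[A] A') (Bq ⊗[A] A') := f.toRingHom.toAlgebra
  haveI : IsScalarTower B (B ⊗[A] A') (Bq ⊗[A] A') :=
    IsScalarTower.of_algebraMap_eq (R := B) (S := B ⊗[A] A') (A := Bq ⊗[A] A') fun a => by
      simp [RingHom.algebraMap_toAlgebra, f]
      rfl
  haveI := IsLocalization.tensorProduct_tensorProduct A A' q.primeCompl Bq (by
    ext l; simp [RingHom.algebraMap_toAlgebra, f])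
  haveI := (hB q).1
  haveI := (hB q).2
  refine ⟨Algebra.algebraMapSubmonoid (B ⊗[A] A') q.primeCompl, Bq ⊗[A] A', inferInstance, inferInstance,
    inferInstance, ?_, isNormalRing_baseChange_domain h Bq⟩
  rw [Set.disjoint_left]
  rintro _ ⟨u, hu, rfl⟩ hP
  exact hu hP

end Groth.Agent.GeomFieldLib
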