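import Groth.Agent.GeomFieldLib.ICTensor
import Mathlib.RingTheory.Ideal.MinimalPrime.Noetherian
import Mathlib.RingTheory.Ideal.Quotient.Nilpotent

/-!
# Integral closure in an arbitrary algebra commutes with base change (EGA IV 6.14.4)
-/

set_option autoImplicit false
set_option linter.style.haveILetI false

universe u

open TensorProduct

namespace Groth.Agent.GeomFieldLib

theorem isIntegral_of_isNilpotent_aeval {B C : Type u} [CommRing B] [CommRing C] [Algebra B C] {z : C}
    (p : Polynomial B) (hp : p.Monic) (h : IsNilpotent (Polynomial.aeval z p)) : IsIntegral B z := by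
  obtain ⟨n, hn⟩ := h
  refine ⟨p ^ n, hp.pow n, ?_⟩
  rw [← Polynomial.aeval_def, map_pow, hn]

variable {A : Type u} [CommRing A] {A' : Type u} [CommRing A'] [Algebra A A'] [Module.Flat A A']

theorem mem_tensorImage_of_integral_reduced (hred : ∀ (K : Type u) [Field K] [Algebra A K], IsReduced (K ⊗[A] A'))
    {B C : Type u} [CommRing B] [CommRing C] [Algebra A B] [Algebra A C] [Algebra B C] [IsScalarTower A B C]
    [IsNoetherianRing B] [IsNoetherianRing C] [IsReduced C] (x : C ⊗[A] A')
    (hx : (Algebra.TensorProduct.map (IsScalarTower.toAlgHom A B C) (AlgHom.id A A')).toRingHom.IsIntegralElem x) :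
    x ∈ tensorImage (A := A) (A' := A') (integralClosure B C).toSubmodule := by
  classical
  let ι := minimalPrimes C
  haveI : Finite ι := (minimalPrimes.finite_of_isNoetherianRing C).to_subtype
  haveI : Fintype ι := Fintype.ofFinite _
  haveI : ∀ P : ι, P.1.IsPrime := fun P => P.2.1.1
  let Q : ι → Type u := fun P => P.1.ResidueField ⧸ (integralClosure B P.1.ResidueField).toSubmodule
  let f₀ : C →ₗ[B] (∀ P : ι, Q P) := LinearMap.pi fun P =>
    (integralClosure B P.1.ResidueField).toSubmodule.mkQ ∘ₗ (IsScalarTower.toAlgHom B C P.1.ResidueField).toLinearMap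
  let f : C →ₗ[A] (∀ P : ι, Q P) := f₀.restrictScalars A
  have hx' : x ∈ LinearMap.range ((LinearMap.ker f).subtype.rTensor A') := by
    refine (Module.Flat.rTensor_exact (M := A') (LinearMap.exact_subtype_ker_map f) x).1
      ((TensorProduct.piLeft A A' Q).injective ?_)
    rw [map_zero]
    funext P
    haveI : IsScalarTower A B P.1.ResidueField := IsScalarTower.of_algebraMap_eq fun a => by
      rw [IsScalarTower.algebraMap_apply B C P.1.ResidueField, ← IsScalarTower.algebraMap_apply A B C,
        ← IsScalarTower.algebraMap_apply]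
    let g := Algebra.TensorProduct.map (IsScalarTower.toAlgHom A C P.1.ResidueField) (AlgHom.id A A')
    have key : ∀ y : C ⊗[A] A', TensorProduct.piLeft A A' Q (f.rTensor A' y) P =
        ((integralClosure B P.1.ResidueField).toSubmodule.mkQ.restrictScalars A).rTensor A' (g y) := fun y => by
      induction y using TensorProduct.induction_on with
      | zero => simp
      | tmul z a => simp [f, f₀, g]; rfl
      | add y z hy hz => simp only [map_add, Pi.add_apply, hy, hz]
    rw [key, Pi.zero_apply]
    have hgx : (Algebra.TensorProduct.map (IsScalarTower.toAlgHom A B P.1.ResidueField)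
        (AlgHom.id A A')).toRingHom.IsIntegralElem (g x) := by
      obtain ⟨p, hp, hpx⟩ := hx
      refine ⟨p, hp, ?_⟩
      rw [show (Algebra.TensorProduct.map (IsScalarTower.toAlgHom A B P.1.ResidueField) (AlgHom.id A A')).toRingHom =
        g.toRingHom.comp (Algebra.TensorProduct.map (IsScalarTower.toAlgHom A B C) (AlgHom.id A A')).toRingHom by
          refine RingHom.ext fun u => ?_
          induction u using TensorProduct.induction_on with
          | zero => simp
          | tmul a c =>
            show algebraMap B P.1.ResidueField a ⊗ₜ[A] c = algebraMap C P.1.ResidueField (algebraMap B C a) ⊗ₜ[A] c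
            rw [← IsScalarTower.algebraMap_apply B C P.1.ResidueField]
          | add a c ha hc => simp only [map_add, ha, hc]]
      have := congrArg g.toRingHom hpx
      rwa [map_zero, Polynomial.hom_eval₂] at this
    obtain ⟨u, hu⟩ := mem_tensorImage_of_integral hred (D := B) (g x) hgx
    rw [← hu]
    clear hu
    induction u using TensorProduct.induction_on with
    | zero => simp only [map_zero]
    | tmul a c =>
      rw [AlgebraTensorModule.map_tmul, LinearMap.rTensor_tmul, LinearMap.id_apply]
      show (integralClosure B P.1.ResidueField).toSubmodule.mkQ (a : P.1.ResidueField) ⊗ₜ[A] c = 0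
      rw [Submodule.mkQ_apply, (Submodule.Quotient.mk_eq_zero _).2 a.2, TensorProduct.zero_tmul]
    | add a c ha hc => simp only [map_add, ha, hc, add_zero]
  have hker : ∀ z : C, z ∈ LinearMap.ker f → IsIntegral B z := fun z hz => by
    have hP : ∀ P : ι, ∃ p : Polynomial B, p.Monic ∧ Polynomial.aeval z p ∈ P.1 := fun P => by
      obtain ⟨p, hp, hpz⟩ := (Submodule.Quotient.mk_eq_zero (integralClosure B P.1.ResidueField).toSubmodule).1
        (congrFun (LinearMap.mem_ker.1 hz) P)
      refine ⟨p, hp, ?_⟩
      rw [← Ideal.algebraMap_residueField_eq_zero, ← Polynomial.aeval_algebraMap_apply]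
      exact hpz
    choose p hp hpz using hP
    refine isIntegral_of_isNilpotent_aeval (∏ P, p P) (Polynomial.monic_prod_of_monic _ _ fun P _ => hp P) ?_
    rw [← mem_nilradical, nilradical, ← Ideal.sInf_minimalPrimes, Submodule.mem_sInf]
    intro q hq
    rw [map_prod]
    exact Ideal.mem_of_dvd q (Finset.dvd_prod_of_mem (fun P : ι => Polynomial.aeval z (p P))
      (Finset.mem_univ (⟨q, hq⟩ : ι))) (hpz ⟨q, hq⟩)
  obtain ⟨u, rfl⟩ := hx'
  clear hx
  induction u using TensorProduct.induction_on with
  | zero => rw [map_zero]; exact zero_mem _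
  | tmul a c => exact tmul_mem_tensorImage _ (hker a.1 a.2) c
  | add a c ha hc => rw [map_add]; exact add_mem ha hc

theorem mem_tensorImage_of_integral_noetherian (hred : ∀ (K : Type u) [Field K] [Algebra A K], IsReduced (K ⊗[A] A'))
    {B C : Type u} [CommRing B] [CommRing C] [Algebra A B] [Algebra A C] [Algebra B C] [IsScalarTower A B C]
    [IsNoetherianRing B] [IsNoetherianRing C] (x : C ⊗[A] A')
    (hx : (Algebra.TensorProduct.map (IsScalarTower.toAlgHom A B C) (AlgHom.id A A')).toRingHom.IsIntegralElem x) :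
    x ∈ tensorImage (A := A) (A' := A') (integralClosure B C).toSubmodule := by
  classical
  let Cr := C ⧸ nilradical C
  haveI : IsReduced Cr := (Ideal.isRadical_iff_quotient_reduced _).1 (Ideal.radical_isRadical _)
  haveI : IsNoetherianRing Cr := isNoetherianRing_of_surjective C Cr _ Ideal.Quotient.mk_surjective
  let π := Algebra.TensorProduct.map (Ideal.Quotient.mkₐ A (nilradical C)) (AlgHom.id A A')
  obtain ⟨u, hu⟩ := mem_tensorImage_of_integral_reduced hred (B := B) (C := Cr) (π x) (by
    obtain ⟨p, hp, hpx⟩ := hx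
    refine ⟨p, hp, ?_⟩
    rw [show (Algebra.TensorProduct.map (IsScalarTower.toAlgHom A B Cr) (AlgHom.id A A')).toRingHom =
      π.toRingHom.comp (Algebra.TensorProduct.map (IsScalarTower.toAlgHom A B C) (AlgHom.id A A')).toRingHom by
        refine RingHom.ext fun u => ?_
        induction u using TensorProduct.induction_on with
        | zero => simp
        | tmul a c => rfl
        | add a c ha hc => simp only [map_add, ha, hc]]
    have := congrArg π.toRingHom hpx
    rwa [map_zero, Polynomial.hom_eval₂] at this)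
  set M := tensorImage (A := A) (A' := A') (integralClosure B C).toSubmodule
  obtain ⟨v, hv, hvx⟩ : ∃ v ∈ M, π v = π x := by
    rw [← hu]
    clear hu
    induction u using TensorProduct.induction_on with
    | zero => exact ⟨0, zero_mem _, by rw [map_zero, map_zero]⟩
    | tmul a c =>
      obtain ⟨z, hz⟩ := Ideal.Quotient.mk_surjective (a : Cr)
      refine ⟨z ⊗ₜ c, tmul_mem_tensorImage _ ?_ c, ?_⟩
      · obtain ⟨p, hp, hpa⟩ := a.2
        refine isIntegral_of_isNilpotent_aeval p hp (mem_nilradical.1 (Ideal.Quotient.eq_zero_iff_mem.1 ?_))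
        rw [← Polynomial.aeval_def, ← hz] at hpa
        rw [← hpa]
        exact (Polynomial.aeval_algebraMap_apply Cr z p).symm
      · rw [Algebra.TensorProduct.map_tmul, AlgebraTensorModule.map_tmul]
        exact congrArg (· ⊗ₜ[A] c) hz
    | add a c ha hc =>
      obtain ⟨v, hv, hva⟩ := ha
      obtain ⟨w, hw, hwc⟩ := hc
      exact ⟨v + w, add_mem hv hw, by rw [map_add, map_add, hva, hwc]⟩
  rw [← sub_add_cancel x v]
  refine add_mem ?_ hv
  have hex : Function.Exact ((nilradical C).restrictScalars A).subtype (Ideal.Quotient.mkₐ A (nilradical C)).toLinearMap :=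
    fun d => ⟨fun hd => ⟨⟨d, Ideal.Quotient.eq_zero_iff_mem.1 hd⟩, rfl⟩,
      fun ⟨q', hq'⟩ => hq' ▸ Ideal.Quotient.eq_zero_iff_mem.2 q'.2⟩
  have hπ : ∀ y, π y = (Ideal.Quotient.mkₐ A (nilradical C)).toLinearMap.rTensor A' y := fun y => rfl
  obtain ⟨w, hw⟩ := (Module.Flat.rTensor_exact (M := A') hex (x - v)).1 (by rw [← hπ, map_sub, hvx, sub_self])
  rw [← hw]
  clear hw
  induction w using TensorProduct.induction_on with
  | zero => rw [map_zero]; exact zero_mem _
  | tmul a c =>
    refine tmul_mem_tensorImage _ ?_ c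
    exact isIntegral_of_isNilpotent_aeval Polynomial.X Polynomial.monic_X (by
      rw [Polynomial.aeval_X]
      exact mem_nilradical.1 a.2)
  | add a c ha hc => rw [map_add]; exact add_mem ha hc

/-- EGA IV 6.14.4, no finiteness on `B` or `C`. -/
theorem mem_tensorImage_of_integral_general (hred : ∀ (K : Type u) [Field K] [Algebra A K], IsReduced (K ⊗[A] A'))
    [IsNoetherianRing A] {B C : Type u} [CommRing B] [CommRing C] [Algebra A B] [Algebra A C] [Algebra B C]
    [IsScalarTower A B C] (x : C ⊗[A] A')
    (hx : (Algebra.TensorProduct.map (IsScalarTower.toAlgHom A B C) (AlgHom.id A A')).toRingHom.IsIntegralElem x) :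
    x ∈ tensorImage (A := A) (A' := A') (integralClosure B C).toSubmodule := by
  classical
  obtain ⟨p, hp, hpx⟩ := hx
  have hmem : ∀ u : B ⊗[A] A', ∃ c : Finset B, ∀ D : Subalgebra A B, (c : Set B) ⊆ D →
      ∃ v : D ⊗[A] A', Algebra.TensorProduct.map D.val (AlgHom.id A A') v = u := fun u => by
    obtain ⟨S, rfl⟩ := TensorProduct.exists_finset u
    refine ⟨S.image Prod.fst, fun D hD => ⟨∑ i ∈ S.attach,
      (⟨i.1.1, hD (Finset.mem_image_of_mem _ i.2)⟩ : D) ⊗ₜ i.1.2, ?_⟩⟩
    rw [map_sum, ← Finset.sum_attach S]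
    rfl
  choose c hc using hmem
  let G : Finset B := ((Finset.range (p.natDegree + 1)).image p.coeff).biUnion c
  let B₀ := Algebra.adjoin A (G : Set B)
  obtain ⟨S, hS⟩ := TensorProduct.exists_finset x
  let C₀ := Algebra.adjoin A ((G.image (algebraMap B C) ∪ S.image Prod.fst : Finset C) : Set C)
  haveI : Algebra.FiniteType A B₀ := (Subalgebra.fg_iff_finiteType B₀).mp (Subalgebra.fg_adjoin_finset _)
  haveI : IsNoetherianRing B₀ := Algebra.FiniteType.isNoetherianRing A B₀
  haveI : Algebra.FiniteType A C₀ := (Subalgebra.fg_iff_finiteType C₀).mp (Subalgebra.fg_adjoin_finset _)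
  haveI : IsNoetherianRing C₀ := Algebra.FiniteType.isNoetherianRing A C₀
  have hBC : ∀ b : B₀, algebraMap B C b ∈ C₀ := fun b => by
    have : B₀ ≤ C₀.comap (IsScalarTower.toAlgHom A B C) := Algebra.adjoin_le fun g hg =>
      Algebra.subset_adjoin (Finset.mem_union_left _ (Finset.mem_image_of_mem _ hg))
    exact this b.2
  let j : B₀ →ₐ[A] C₀ := ((IsScalarTower.toAlgHom A B C).comp B₀.val).codRestrict C₀ hBC
  letI : Algebra B₀ C₀ := j.toRingHom.toAlgebra
  haveI : IsScalarTower A B₀ C₀ := IsScalarTower.of_algebraMap_eq fun a => (j.commutes a).symm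
  let ψ := Algebra.TensorProduct.map B₀.val (AlgHom.id A A')
  let χ := Algebra.TensorProduct.map C₀.val (AlgHom.id A A')
  have hχ : Function.Injective χ :=
    Module.Flat.rTensor_preserves_injective_linearMap (M := A') C₀.val.toLinearMap Subtype.val_injective
  have hlift : p ∈ Polynomial.lifts ψ.toRingHom := (Polynomial.lifts_iff_coeff_lifts _).2 fun i => by
    rcases Nat.lt_or_ge i (p.natDegree + 1) with hi | hi
    · exact hc (p.coeff i) B₀ (fun z hz => Algebra.subset_adjoin
        (Finset.mem_biUnion.2 ⟨p.coeff i, Finset.mem_image_of_mem _ (Finset.mem_range.2 hi), hz⟩))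
    · exact ⟨0, by rw [map_zero, Polynomial.coeff_eq_zero_of_natDegree_lt (by omega)]⟩
  obtain ⟨q, hq, -, hqm⟩ := Polynomial.lifts_and_natDegree_eq_and_monic hlift hp
  let x₀ : C₀ ⊗[A] A' := ∑ i ∈ S.attach,
    (⟨i.1.1, Algebra.subset_adjoin (Finset.mem_union_right _ (Finset.mem_image_of_mem _ i.2))⟩ : C₀) ⊗ₜ i.1.2
  have hx₀ : χ x₀ = x := by
    rw [map_sum, hS, ← Finset.sum_attach S]
    rfl
  obtain ⟨u, hu⟩ := mem_tensorImage_of_integral_noetherian hred (B := B₀) (C := C₀) x₀ ⟨q, hqm, hχ <| by
    show χ.toRingHom _ = χ.toRingHom 0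
    rw [map_zero, Polynomial.hom_eval₂]
    show Polynomial.eval₂ _ (χ x₀) q = 0
    rw [hx₀, show χ.toRingHom.comp (Algebra.TensorProduct.map (IsScalarTower.toAlgHom A B₀ C₀) (AlgHom.id A A')).toRingHom =
      (Algebra.TensorProduct.map (IsScalarTower.toAlgHom A B C) (AlgHom.id A A')).toRingHom.comp ψ.toRingHom by
        refine RingHom.ext fun u => ?_
        induction u using TensorProduct.induction_on with
        | zero => simp
        | tmul a c => rfl
        | add a c ha hc => simp only [map_add, ha, hc]]
    rw [← Polynomial.eval₂_map, hq]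
    exact hpx⟩
  rw [← hx₀, ← hu]
  clear hu
  induction u using TensorProduct.induction_on with
  | zero => rw [map_zero, map_zero]; exact zero_mem _
  | tmul a c =>
    refine tmul_mem_tensorImage _ ?_ c
    obtain ⟨p, hp, hpa⟩ := a.2
    refine ⟨p.map B₀.val.toRingHom, hp.map _, ?_⟩
    rw [Polynomial.eval₂_map, show (algebraMap B C).comp B₀.val.toRingHom =
      C₀.val.toRingHom.comp (algebraMap B₀ C₀) from RingHom.ext fun z => rfl]
    have := congrArg C₀.val.toRingHom hpa
    rwa [Polynomial.hom_eval₂, map_zero] at this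
  | add a c ha hc => rw [map_add, map_add]; exact add_mem ha hc

end Groth.Agent.GeomFieldLib
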