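import Mathlib.RingTheory.Valuation.LocalSubring
import Mathlib.RingTheory.Polynomial.ScaleRoots
import Mathlib.RingTheory.TensorProduct.Free
import Mathlib.RingTheory.Flat.Basic
import Mathlib.RingTheory.LocalRing.ResidueField.Ideal
import Mathlib.RingTheory.Localization.Integer
import Mathlib.LinearAlgebra.Basis.VectorSpace
import Mathlib.LinearAlgebra.TensorProduct.Pi
import Mathlib.RingTheory.Nilpotent.GeometricallyReduced

/-!
# Integral closure commutes with base change by flat maps with geometrically reduced fibres (EGA IV 6.14.4)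

No finiteness of the integral closure is needed: only that the base of the integral closure is Noetherian.
-/

set_option autoImplicit false
set_option linter.style.haveILetI false

universe u

open TensorProduct

namespace Groth.Agent.GeomFieldLib

variable {A : Type u} [CommRing A] {A' : Type u} [CommRing A'] [Algebra A A'] [Module.Flat A A']
  {D : Type u} [CommRing D] [Algebra A D]

section module

variable {M : Type u} [AddCommGroup M] [Module A M] [Module D M] [IsScalarTower A D M]

/-- The image of `C ⊗ A'` in `M ⊗ A'`. -/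
noncomputable def tensorImage (C : Submodule D M) : Submodule D (M ⊗[A] A') :=
  LinearMap.range (AlgebraTensorModule.map C.subtype (LinearMap.id : A' →ₗ[A] A'))

omit [Module.Flat A A'] in
theorem tmul_mem_tensorImage (C : Submodule D M) {z : M} (hz : z ∈ C) (a' : A') :
    z ⊗ₜ[A] a' ∈ tensorImage (A := A) (A' := A') C :=
  ⟨(⟨z, hz⟩ : C) ⊗ₜ a', by rw [AlgebraTensorModule.map_tmul]; rfl⟩

/-- The elements multiplying all `g i` into `C`. -/
def colonKer (C : Submodule D M) {r : ℕ} (g : Fin r → D) : Submodule D M :=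
  LinearMap.ker (LinearMap.pi fun i => C.mkQ ∘ₗ LinearMap.lsmul D M (g i))

omit [Algebra A D] [IsScalarTower A D M] [Module A M] [Module.Flat A A'] [Algebra A A'] in
theorem smul_mem_of_mem_colonKer (C : Submodule D M) {r : ℕ} (g : Fin r → D) {z : M} (hz : z ∈ colonKer C g)
    {p : D} (hp : p ∈ Submodule.span D (Set.range g)) : p • z ∈ C := by
  have : Submodule.span D (Set.range g) ≤ C.comap (LinearMap.toSpanSingleton D M z) := by
    rw [Submodule.span_le]
    rintro _ ⟨i, rfl⟩
    exact (Submodule.Quotient.mk_eq_zero C).1 (congrFun (LinearMap.mem_ker.1 hz) i)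
  exact this hp

theorem exists_rTensor_colon (C : Submodule D M) {r : ℕ} (g : Fin r → D) (x : M ⊗[A] A')
    (hP : ∀ i, g i • x ∈ tensorImage (A := A) (A' := A') C) :
    x ∈ LinearMap.range (((colonKer C g).restrictScalars A).subtype.rTensor A') := by
  let f : M →ₗ[A] (Fin r → M ⧸ C) := (LinearMap.pi fun i => C.mkQ ∘ₗ LinearMap.lsmul D M (g i)).restrictScalars A
  have hexf : Function.Exact ((colonKer C g).restrictScalars A).subtype f := LinearMap.exact_subtype_ker_map f
  refine (Module.Flat.rTensor_exact (M := A') hexf x).1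
    ((TensorProduct.piLeft A A' (fun _ : Fin r => M ⧸ C)).injective ?_)
  rw [map_zero]
  funext i
  have key : ∀ y : M ⊗[A] A', TensorProduct.piLeft A A' (fun _ : Fin r => M ⧸ C) (f.rTensor A' y) i =
      (C.mkQ.restrictScalars A).rTensor A' (g i • y) := fun y => by
    induction y using TensorProduct.induction_on with
    | zero => simp
    | tmul z a =>
      rw [TensorProduct.smul_tmul', LinearMap.rTensor_tmul, LinearMap.rTensor_tmul]
      simp [f]
    | add y z hy hz => simp only [map_add, Pi.add_apply, smul_add, hy, hz]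
  rw [key, Pi.zero_apply]
  obtain ⟨u, hu⟩ := hP i
  rw [← hu]
  clear hu
  induction u using TensorProduct.induction_on with
  | zero => simp only [map_zero]
  | tmul a c =>
    rw [AlgebraTensorModule.map_tmul, LinearMap.rTensor_tmul, LinearMap.id_apply]
    show C.mkQ (a : M) ⊗ₜ[A] c = 0
    rw [Submodule.mkQ_apply, (Submodule.Quotient.mk_eq_zero _).2 a.2, TensorProduct.zero_tmul]
  | add a c ha hc => simp only [map_add, ha, hc, add_zero]

omit [Module.Flat A A'] in
theorem exists_scale (P : Ideal D) [P.IsPrime] {ι : Type*} (U : Finset ι) (c : ι → P.ResidueField) :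
    ∃ s ∉ P, ∀ t ∈ U, ∃ d : D, algebraMap D P.ResidueField s * c t = algebraMap D P.ResidueField d := by
  obtain ⟨⟨s', hs'⟩, hs⟩ := IsLocalization.exist_integer_multiples (nonZeroDivisors (D ⧸ P)) U c
  obtain ⟨s, rfl⟩ := Ideal.Quotient.mk_surjective s'
  refine ⟨s, fun h => nonZeroDivisors.ne_zero hs' (Ideal.Quotient.eq_zero_iff_mem.2 h), fun t ht => ?_⟩
  obtain ⟨d', hd'⟩ := hs t ht
  obtain ⟨d, rfl⟩ := Ideal.Quotient.mk_surjective d'
  refine ⟨d, ?_⟩
  rw [IsScalarTower.algebraMap_apply D (D ⧸ P) P.ResidueField s,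
    IsScalarTower.algebraMap_apply D (D ⧸ P) P.ResidueField d]
  rw [Algebra.smul_def] at hd'
  exact hd'.symm

/-- An element of `D ⊗ A'` vanishing in the fibre at `P` comes from `P ⊗ A'`. -/
theorem mem_range_of_fibre_eq_zero (P : Ideal D) [P.IsPrime] (u : D ⊗[A] A')
    (h : (IsScalarTower.toAlgHom A D P.ResidueField).toLinearMap.rTensor A' u = 0) :
    u ∈ LinearMap.range ((P.restrictScalars A).subtype.rTensor A') := by
  let q := (IsScalarTower.toAlgHom A D (D ⧸ P)).toLinearMap
  let j := (IsScalarTower.toAlgHom A (D ⧸ P) P.ResidueField).toLinearMap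
  have hcomp : j ∘ₗ q = (IsScalarTower.toAlgHom A D P.ResidueField).toLinearMap :=
    LinearMap.ext fun d => (IsScalarTower.algebraMap_apply D (D ⧸ P) P.ResidueField d).symm
  have hex : Function.Exact (P.restrictScalars A).subtype q := fun d =>
    ⟨fun hd => ⟨⟨d, Ideal.Quotient.eq_zero_iff_mem.1 hd⟩, rfl⟩,
      fun ⟨q', hq'⟩ => hq' ▸ Ideal.Quotient.eq_zero_iff_mem.2 q'.2⟩
  refine (Module.Flat.rTensor_exact (M := A') hex u).1
    (Module.Flat.rTensor_preserves_injective_linearMap (M := A') j (IsFractionRing.injective (D ⧸ P) P.ResidueField) ?_)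
  rw [map_zero, ← LinearMap.rTensor_comp_apply, hcomp]
  exact h

/-- An element of `(colon module) ⊗ A'` in terms of elements lifting a basis of the fibre at `P`. -/
theorem exists_rep (C : Submodule D M) (P : Ideal D) [P.IsPrime] {r : ℕ} (g : Fin r → D)
    (hg : Submodule.span D (Set.range g) = P) {ι : Type*} (b : Module.Basis ι P.ResidueField (P.ResidueField ⊗[A] A'))
    (e : ι → A') (he : ∀ t, (1 : P.ResidueField) ⊗ₜ[A] e t = b t)
    (n : (colonKer C g).restrictScalars A ⊗[A] A') :
    ∃ s ∉ P, ∃ c : ι →₀ M, (∀ t, c t ∈ colonKer C g) ∧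
      s • ((colonKer C g).restrictScalars A).subtype.rTensor A' n - c.sum (fun t z => z ⊗ₜ[A] e t) ∈
        tensorImage (A := A) (A' := A') C := by
  classical
  induction n using TensorProduct.induction_on with
  | zero => exact ⟨1, P.one_notMem, 0, fun t => by simp, by simp⟩
  | tmul z a =>
    let c₀ := b.repr ((1 : P.ResidueField) ⊗ₜ[A] a)
    obtain ⟨s, hs, hd⟩ := exists_scale P c₀.support c₀
    choose! d hd using hd
    let u : D ⊗[A] A' := s ⊗ₜ a - ∑ t ∈ c₀.support, d t ⊗ₜ e t
    have hu : (IsScalarTower.toAlgHom A D P.ResidueField).toLinearMap.rTensor A' u = 0 := by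
      rw [map_sub, map_sum, LinearMap.rTensor_tmul, sub_eq_zero]
      have h1 := congrArg (algebraMap D P.ResidueField s • ·)
        (b.linearCombination_repr ((1 : P.ResidueField) ⊗ₜ[A] a))
      simp only [TensorProduct.smul_tmul', smul_eq_mul, mul_one] at h1
      show algebraMap D P.ResidueField s ⊗ₜ[A] a = _
      rw [← h1, Finsupp.linearCombination_apply, Finsupp.sum, Finset.smul_sum]
      refine Finset.sum_congr rfl fun t ht => ?_
      rw [LinearMap.rTensor_tmul, ← he, TensorProduct.smul_tmul', TensorProduct.smul_tmul', smul_eq_mul,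
        smul_eq_mul, mul_one]
      show _ = algebraMap D P.ResidueField (d t) ⊗ₜ[A] e t
      rw [← hd t ht]
    obtain ⟨v, hv⟩ := mem_range_of_fibre_eq_zero P u hu
    let μ : D →ₗ[A] M := (LinearMap.toSpanSingleton D M z.1).restrictScalars A
    refine ⟨s, hs, Finsupp.onFinset c₀.support (fun t => if t ∈ c₀.support then d t • z.1 else 0)
      (fun t ht => by_contra fun h => ht (if_neg h)), fun t => ?_, ?_⟩
    · rw [Finsupp.onFinset_apply]
      split_ifs with h
      · exact (colonKer C g).smul_mem _ z.2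
      · exact zero_mem _
    · rw [Finsupp.sum_of_support_subset _ Finsupp.support_onFinset_subset (fun t z => z ⊗ₜ[A] e t)
        (fun t _ => TensorProduct.zero_tmul _ _),
        Finset.sum_congr rfl fun t ht => by rw [Finsupp.onFinset_apply, if_pos ht]]
      have h2 : s • (((colonKer C g).restrictScalars A).subtype.rTensor A' (z ⊗ₜ a)) -
          ∑ t ∈ c₀.support, (d t • z.1) ⊗ₜ[A] e t = μ.rTensor A' u := by
        rw [map_sub, map_sum, LinearMap.rTensor_tmul, LinearMap.rTensor_tmul, TensorProduct.smul_tmul']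
        rfl
      rw [h2, ← hv]
      clear hv
      induction v using TensorProduct.induction_on with
      | zero => simp only [map_zero]; exact zero_mem _
      | tmul q a' => exact tmul_mem_tensorImage C (smul_mem_of_mem_colonKer C g z.2 (hg.symm ▸ q.2)) a'
      | add v w hv hw => simp only [map_add]; exact add_mem hv hw
  | add m n hm hn =>
    obtain ⟨s, hs, c, hc, hsm⟩ := hm
    obtain ⟨s', hs', c', hc', hsn⟩ := hn
    refine ⟨s * s', fun h => ((inferInstance : P.IsPrime).mem_or_mem h).elim hs hs', s' • c + s • c',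
      fun t => ?_, ?_⟩
    · exact add_mem ((colonKer C g).smul_mem _ (hc t)) ((colonKer C g).smul_mem _ (hc' t))
    · have hmul : ∀ (w : D) (c : ι →₀ M), (w • c).sum (fun t z => z ⊗ₜ[A] e t) =
          w • c.sum (fun t z => z ⊗ₜ[A] e t) := fun w c => by
        rw [Finsupp.sum_smul_index' (h := fun t z => z ⊗ₜ[A] e t) fun t => TensorProduct.zero_tmul _ _,
          Finsupp.smul_sum]
        rfl
      rw [Finsupp.sum_add_index' (h := fun t z => z ⊗ₜ[A] e t) (fun t => TensorProduct.zero_tmul _ _) (fun t u v => TensorProduct.add_tmul _ _ _),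
        hmul, hmul, map_add, smul_add]
      have h3 := add_mem ((tensorImage (A := A) (A' := A') C).smul_mem s' hsm) ((tensorImage (A := A) (A' := A') C).smul_mem s hsn)
      simp only [smul_sub, smul_smul] at h3
      convert h3 using 1
      rw [mul_comm s' s]
      abel

end module

variable {L : Type u} [Field L] [Algebra A L] [Algebra D L] [IsScalarTower A D L]

/-- The integral closure of `D` localised at `P`, as a subring of `L`. -/
def locIC (L : Type u) [Field L] [Algebra D L] (P : Ideal D) [P.IsPrime] : Subring L where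
  carrier := {w | ∃ t ∉ P, algebraMap D L t * w ∈ integralClosure D L}
  mul_mem' := by
    rintro v w ⟨t, ht, htv⟩ ⟨t', ht', htw⟩
    refine ⟨t * t', fun h => ((inferInstance : P.IsPrime).mem_or_mem h).elim ht ht', ?_⟩
    rw [map_mul, mul_mul_mul_comm]
    exact mul_mem htv htw
  one_mem' := ⟨1, P.one_notMem, by rw [map_one, one_mul]; exact one_mem _⟩
  add_mem' := by
    rintro v w ⟨t, ht, htv⟩ ⟨t', ht', htw⟩
    refine ⟨t * t', fun h => ((inferInstance : P.IsPrime).mem_or_mem h).elim ht ht', ?_⟩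
    rw [show algebraMap D L (t * t') * (v + w) = algebraMap D L t' * (algebraMap D L t * v) +
      algebraMap D L t * (algebraMap D L t' * w) by rw [map_mul]; ring]
    exact add_mem (mul_mem ((integralClosure D L).algebraMap_mem t') htv)
      (mul_mem ((integralClosure D L).algebraMap_mem t) htw)
  zero_mem' := ⟨1, P.one_notMem, by rw [mul_zero]; exact zero_mem _⟩
  neg_mem' := by
    rintro v ⟨t, ht, htv⟩
    exact ⟨t, ht, by rw [mul_neg]; exact neg_mem htv⟩

omit [Algebra A D] [IsScalarTower A D L] [Algebra A L] [Module.Flat A A'] [Algebra A A'] in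
theorem mem_locIC_of_mem (P : Ideal D) [P.IsPrime] {w : L} (hw : w ∈ integralClosure D L) : w ∈ locIC L P :=
  ⟨1, P.one_notMem, by rw [map_one, one_mul]; exact hw⟩

omit [Algebra A D] [IsScalarTower A D L] [Algebra A L] [Module.Flat A A'] [Algebra A A'] in
theorem isIntegrallyClosedIn_locIC (P : Ideal D) [P.IsPrime] : IsIntegrallyClosedIn (locIC L P) L :=
  Subring.isIntegrallyClosedIn_iff.2 fun w hw => by
  obtain ⟨p, hp, hpw⟩ := hw
  have hco : ∀ i, ∃ t ∉ P, algebraMap D L t * (p.coeff i : L) ∈ integralClosure D L := fun i => (p.coeff i).2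
  choose t ht htc using hco
  let T := ∏ i ∈ Finset.range p.natDegree, t i
  have hT : T ∉ P := fun h => by
    obtain ⟨i, hi, hiP⟩ := (Ideal.IsPrime.prod_mem_iff).1 h
    exact ht i hiP
  refine ⟨T, hT, ?_⟩
  let q := (p.map (locIC L P).subtype).scaleRoots (algebraMap D L T)
  have hqm : q.Monic := (Polynomial.monic_scaleRoots_iff _).2 (hp.map _)
  have hq0 : q.eval (algebraMap D L T * w) = 0 :=
    Polynomial.scaleRoots_eval₂_eq_zero (RingHom.id L) (p := p.map (locIC L P).subtype)
      (by rw [Polynomial.eval₂_map, RingHom.id_comp]; exact hpw)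
  have hlift : q ∈ Polynomial.lifts (algebraMap (integralClosure D L) L) :=
    (Polynomial.lifts_iff_coeff_lifts _).2 fun i => by
      rw [Polynomial.coeff_scaleRoots, Polynomial.coeff_map, hp.natDegree_map (locIC L P).subtype]
      rcases lt_trichotomy i p.natDegree with hi | hi | hi
      · obtain ⟨m, hm⟩ := Nat.exists_eq_add_of_lt hi
        refine ⟨⟨(algebraMap D L (t i) * (p.coeff i : L)) *
          algebraMap D L ((∏ j ∈ (Finset.range p.natDegree).erase i, t j) * T ^ m),
          mul_mem (htc i) ((integralClosure D L).algebraMap_mem _)⟩, ?_⟩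
        show algebraMap D L (t i) * (p.coeff i : L) * _ = (p.coeff i : L) * _
        rw [show p.natDegree - i = m + 1 by omega, ← map_pow, mul_comm (algebraMap D L (t i)), mul_assoc, ← map_mul,
          ← mul_assoc (t i), Finset.mul_prod_erase _ _ (Finset.mem_range.2 hi), pow_succ']
      · exact ⟨1, by rw [map_one, hi, Nat.sub_self, pow_zero, mul_one, hp.coeff_natDegree, map_one]⟩
      · exact ⟨0, by rw [map_zero, Polynomial.coeff_eq_zero_of_natDegree_lt hi, map_zero, zero_mul]⟩
  obtain ⟨q', hq', -, hq'm⟩ := Polynomial.lifts_and_natDegree_eq_and_monic hlift hqm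
  exact isIntegral_trans _ ⟨q', hq'm, by rw [← Polynomial.eval_map, hq']; exact hq0⟩

omit [Module.Flat A A'] in
/-- A monic relation between lifts of a basis that becomes nilpotent in a reduced fibre is absurd. -/
theorem false_of_eval_scaleRoots (hred : ∀ (K : Type u) [Field K] [Algebra A K], IsReduced (K ⊗[A] A'))
    {K : Type u} [Field K] [Algebra A K] {ι : Type*} (b : Module.Basis ι K (K ⊗[A] A')) (e : ι → A')
    (he : ∀ t, (1 : K) ⊗ₜ[A] e t = b t)
    {R : Type u} [CommRing R] [Algebra A R] {κ : Type u} [Field κ] [Algebra A κ] [Algebra K κ] [IsScalarTower A K κ]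
    (ρ₀ : R →ₐ[A] κ) (π : R) (hπ : ρ₀ π = 0) {J : Type*} (U : Finset J) (w : J → R) (idx : J → ι)
    (hidx : Function.Injective idx) (j : J) (hj : j ∈ U) (hwj : ρ₀ (w j) = 1)
    (p : Polynomial (R ⊗[A] A')) (hp : p.Monic)
    (h0 : (p.scaleRoots (π ⊗ₜ 1)).eval (∑ t ∈ U, w t ⊗ₜ e (idx t)) = 0) : False := by
  classical
  let ρ : R ⊗[A] A' →ₐ[A] κ ⊗[A] A' := Algebra.TensorProduct.map ρ₀ (AlgHom.id A A')
  let y : R ⊗[A] A' := ∑ t ∈ U, w t ⊗ₜ e (idx t)
  haveI := hred κ
  let b' := (b.baseChange κ).map (AlgebraTensorModule.cancelBaseChange A K κ κ A')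
  have hb' : ∀ t, b' t = (1 : κ) ⊗ₜ[A] e t := fun t => by
    rw [Module.Basis.map_apply, Module.Basis.baseChange_apply, ← he,
      AlgebraTensorModule.cancelBaseChange_tmul, one_smul]
  have hterm : ∀ t, b'.repr (ρ (w t ⊗ₜ e (idx t))) = Finsupp.single (idx t) (ρ₀ (w t)) := fun t => by
    rw [Algebra.TensorProduct.map_tmul, AlgHom.coe_id, id, ← mul_one (ρ₀ (w t)), ← smul_eq_mul,
      ← TensorProduct.smul_tmul', ← hb', map_smul, b'.repr_self, Finsupp.smul_single]
  have hne : b'.repr (ρ y) (idx j) = 1 := by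
    rw [map_sum, map_sum, Finsupp.finsetSum_apply, Finset.sum_eq_single j]
    · rw [hterm, Finsupp.single_eq_same, hwj]
    · intro t _ ht
      rw [hterm, Finsupp.single_eq_of_ne (fun h => ht (hidx h.symm))]
    · exact fun h => (h hj).elim
  have h2 : Polynomial.eval (ρ y) ((p.scaleRoots (π ⊗ₜ 1)).map ρ.toRingHom) = 0 := by
    rw [Polynomial.eval_map, ← map_zero ρ.toRingHom, ← h0, Polynomial.eval, Polynomial.hom_eval₂,
      RingHom.comp_id]
    rfl
  haveI hnt : Nontrivial (κ ⊗[A] A') := nontrivial_of_ne (ρ y) 0 fun h => by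
    rw [h, map_zero] at hne
    exact zero_ne_one hne
  rw [Polynomial.map_scaleRoots _ _ _ (by rw [hp.leadingCoeff, map_one]; exact one_ne_zero),
    show ρ.toRingHom (π ⊗ₜ 1) = 0 by
      show ρ (π ⊗ₜ 1) = 0
      rw [Algebra.TensorProduct.map_tmul, hπ, TensorProduct.zero_tmul],
    Polynomial.scaleRoots_zero, (hp.map _).leadingCoeff, one_smul, Polynomial.eval_pow, Polynomial.eval_X] at h2
  rw [IsReduced.eq_zero _ ⟨_, h2⟩, map_zero] at hne
  exact zero_ne_one hne

omit [Algebra D L] [IsScalarTower A D L] in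
/-- The heart: integral combinations of lifts of a basis of the reduced fibre have coefficients in `V`. -/
theorem coeff_mem_of_isIntegral (hred : ∀ (K : Type u) [Field K] [Algebra A K], IsReduced (K ⊗[A] A'))
    (P : Ideal D) [P.IsPrime] {ι : Type*} (b : Module.Basis ι P.ResidueField (P.ResidueField ⊗[A] A')) (e : ι → A')
    (he : ∀ t, (1 : P.ResidueField) ⊗ₜ[A] e t = b t) (V : ValuationSubring L) (V' : Subalgebra A L)
    (hV : ∀ z, z ∈ V' ↔ z ∈ V) (m : Ideal V') [m.IsMaximal] (hnu : ∀ z : V', ¬IsUnit z → z ∈ m)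
    (ιDV : D →ₐ[A] V') (hm : ∀ d : D, ιDV d ∈ m ↔ d ∈ P) (c : ι →₀ L)
    (hy' : (Algebra.TensorProduct.map V'.val (AlgHom.id A A')).toRingHom.IsIntegralElem
      (c.sum fun t z => z ⊗ₜ[A] e t)) : ∀ t ∈ c.support, c t ∈ V := by
  classical
  by_contra hall
  push Not at hall
  obtain ⟨t₀, ht₀, ht₀V⟩ := hall
  obtain ⟨j, hj, hmax⟩ := c.support.exists_max_image (fun t => V.valuation (c t)) ⟨t₀, ht₀⟩
  have hjV : c j ∉ V := fun h => ht₀V ((V.valuation_le_one_iff _).1
    ((hmax t₀ ht₀).trans ((V.valuation_le_one_iff _).2 h)))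
  have hj0 : c j ≠ 0 := Finsupp.mem_support_iff.1 hj
  let π : V' := ⟨(c j)⁻¹, (hV _).2 ((V.mem_or_inv_mem (c j)).resolve_left hjV)⟩
  have hπm : π ∈ m := hnu π fun hu => hjV <| by
    obtain ⟨q, hq⟩ := hu.exists_left_inv
    have h1 : (q : L) * (c j)⁻¹ = 1 := congrArg Subtype.val hq
    rw [show c j = q from (eq_of_mul_inv_eq_one h1).symm]
    exact (hV _).1 q.2
  letI := Ideal.Quotient.field m
  let θ₀ : D ⧸ P →+* V' ⧸ m := Ideal.Quotient.lift P ((Ideal.Quotient.mk m).comp ιDV.toRingHom)
    fun d hd => Ideal.Quotient.eq_zero_iff_mem.2 ((hm d).2 hd)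
  have hθ₀ : Function.Injective θ₀ := (RingHom.injective_iff_ker_eq_bot _).2 <| by
    rw [eq_bot_iff]
    intro q hq
    obtain ⟨d, rfl⟩ := Ideal.Quotient.mk_surjective q
    exact (Submodule.mem_bot _).2
      (Ideal.Quotient.eq_zero_iff_mem.2 ((hm d).1 (Ideal.Quotient.eq_zero_iff_mem.1 hq)))
  let θ : P.ResidueField →+* V' ⧸ m := IsFractionRing.lift hθ₀
  letI : Algebra P.ResidueField (V' ⧸ m) := θ.toAlgebra
  haveI : IsScalarTower A P.ResidueField (V' ⧸ m) := IsScalarTower.of_algebraMap_eq fun a => by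
    show _ = θ (algebraMap A P.ResidueField a)
    rw [IsScalarTower.algebraMap_apply A (D ⧸ P) P.ResidueField a]
    show _ = IsFractionRing.lift hθ₀ _
    rw [IsFractionRing.lift_algebraMap, IsScalarTower.algebraMap_apply A D (D ⧸ P) a,
      Ideal.Quotient.algebraMap_eq, Ideal.Quotient.lift_mk]
    show _ = Ideal.Quotient.mk m (ιDV (algebraMap A D a))
    rw [AlgHom.commutes]
    rfl
  set φ := Algebra.TensorProduct.map V'.val (AlgHom.id A A')
  have hφinj : Function.Injective φ :=
    Module.Flat.rTensor_preserves_injective_linearMap (M := A') V'.val.toLinearMap Subtype.val_injective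
  have hyV : ∀ t ∈ c.support, (c j)⁻¹ * c t ∈ V' := fun t ht => by
    rw [hV, ← V.valuation_le_one_iff, map_mul, map_inv₀]
    calc (V.valuation (c j))⁻¹ * V.valuation (c t) ≤ (V.valuation (c j))⁻¹ * V.valuation (c j) :=
          mul_le_mul_right (hmax t ht) _
      _ = 1 := inv_mul_cancel₀ ((Valuation.ne_zero_iff _).2 hj0)
  let y : V' ⊗[A] A' := ∑ t ∈ c.support.attach, (⟨_, hyV t.1 t.2⟩ : V') ⊗ₜ e t.1
  have hy : φ y = φ (π ⊗ₜ 1) * c.sum (fun t z => z ⊗ₜ[A] e t) := by
    rw [Finsupp.sum, Finset.mul_sum, ← Finset.sum_attach c.support, map_sum]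
    refine Finset.sum_congr rfl fun t _ => ?_
    rw [Algebra.TensorProduct.map_tmul, Algebra.TensorProduct.map_tmul, Algebra.TensorProduct.tmul_mul_tmul]
    show ((c j)⁻¹ * c t.1) ⊗ₜ e t.1 = ((c j)⁻¹ * c t.1) ⊗ₜ ((1 : A') * e t.1)
    rw [one_mul]
  obtain ⟨p, hp, hpy⟩ := hy'
  have h0 : (p.scaleRoots (π ⊗ₜ 1)).eval y = 0 := hφinj <| by
    have h1 := Polynomial.scaleRoots_eval₂_eq_zero φ.toRingHom (p := p) (s := π ⊗ₜ 1) hpy
    rw [map_zero, ← Polynomial.eval₂_id (x := y)]
    show φ.toRingHom _ = 0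
    rw [Polynomial.hom_eval₂, RingHom.comp_id]
    show Polynomial.eval₂ φ.toRingHom (φ y) _ = 0
    rw [hy]
    exact h1
  refine false_of_eval_scaleRoots hred (K := P.ResidueField) b e he (Ideal.Quotient.mkₐ A m) π
    (Ideal.Quotient.eq_zero_iff_mem.2 hπm) c.support.attach (fun t => ⟨_, hyV t.1 t.2⟩) (fun t => t.1)
    Subtype.val_injective ⟨j, hj⟩ (Finset.mem_attach _ _) ?_ p hp h0
  rw [← map_one (Ideal.Quotient.mkₐ A m)]
  exact congrArg _ (Subtype.ext (inv_mul_cancel₀ hj0))

/-- One associated prime at a time. -/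
theorem exists_smul_mem_of_integral (hred : ∀ (K : Type u) [Field K] [Algebra A K], IsReduced (K ⊗[A] A'))
    [IsNoetherianRing D] (P : Ideal D) [P.IsPrime] (x : L ⊗[A] A')
    (hx : (Algebra.TensorProduct.map (IsScalarTower.toAlgHom A D L) (AlgHom.id A A')).toRingHom.IsIntegralElem x)
    (hP : ∀ g ∈ P, g • x ∈ tensorImage (A := A) (A' := A') (integralClosure D L).toSubmodule) :
    ∃ s ∉ P, s • x ∈ tensorImage (A := A) (A' := A') (integralClosure D L).toSubmodule := by
  classical
  set C := (integralClosure D L).toSubmodule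
  obtain ⟨r, g, hg⟩ := Submodule.fg_iff_exists_fin_generating_family.1 (IsNoetherian.noetherian P)
  obtain ⟨n, hn⟩ := exists_rTensor_colon C g x fun i => hP (g i) (hg ▸ Submodule.subset_span (Set.mem_range_self i))
  let K := P.ResidueField
  let S : Set (K ⊗[A] A') := Set.range fun a : A' => (1 : K) ⊗ₜ[A] a
  have hS : ⊤ ≤ Submodule.span K S := fun w _ => by
    induction w using TensorProduct.induction_on with
    | zero => exact zero_mem _
    | tmul c a =>
      rw [← mul_one c, ← smul_eq_mul, ← TensorProduct.smul_tmul']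
      exact Submodule.smul_mem _ _ (Submodule.subset_span ⟨a, rfl⟩)
    | add a c ha hc => exact add_mem (ha trivial) (hc trivial)
  let b := Module.Basis.ofSpan hS
  have hbS : ∀ t, ∃ a : A', (1 : K) ⊗ₜ[A] a = b t := fun t => Module.Basis.ofSpan_subset hS ⟨t, rfl⟩
  choose e he using hbS
  obtain ⟨s, hs, c, hc, hsx⟩ := exists_rep C P g hg b e he n
  rw [hn] at hsx
  by_cases hall : ∀ t ∈ c.support, c t ∈ locIC L P
  · choose! w hw hwc using hall
    refine ⟨(∏ t ∈ c.support, w t) * s, fun h => ?_, ?_⟩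
    · rcases (inferInstance : P.IsPrime).mem_or_mem h with h | h
      · obtain ⟨t, ht, htP⟩ := (Ideal.IsPrime.prod_mem_iff).1 h
        exact hw t ht htP
      · exact hs h
    · rw [mul_smul, ← sub_add_cancel (s • x) (c.sum fun t z => z ⊗ₜ[A] e t), smul_add]
      refine add_mem (Submodule.smul_mem _ _ hsx) ?_
      rw [Finsupp.sum, Finset.smul_sum]
      refine Submodule.sum_mem _ fun t ht => ?_
      rw [TensorProduct.smul_tmul']
      refine tmul_mem_tensorImage C ?_ _
      show _ ∈ integralClosure D L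
      rw [Algebra.smul_def, ← Finset.mul_prod_erase c.support w ht, map_mul, mul_comm (algebraMap D L (w t)),
        mul_assoc]
      exact mul_mem ((integralClosure D L).algebraMap_mem _) (hwc t ht)
  exfalso
  push Not at hall
  obtain ⟨t₀, ht₀, ht₀R⟩ := hall
  haveI := isIntegrallyClosedIn_locIC (L := L) P
  obtain ⟨V, hRV, ht₀V⟩ := Subring.exists_le_valuationSubring_of_isIntegrallyClosedIn ht₀R
  have hDV : ∀ d : D, algebraMap D L d ∈ V := fun d =>
    hRV (mem_locIC_of_mem P ((integralClosure D L).algebraMap_mem d))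
  let V' : Subalgebra A L :=
    { V.toSubring.toSubsemiring with
      algebraMap_mem' := fun a => by rw [IsScalarTower.algebraMap_apply A D L]; exact hDV _ }
  let ιDV : D →ₐ[A] V' := (IsScalarTower.toAlgHom A D L).codRestrict V' hDV
  haveI : IsLocalRing V' := inferInstanceAs (IsLocalRing V)
  have hm : ∀ d : D, ιDV d ∈ IsLocalRing.maximalIdeal V' ↔ d ∈ P := fun d => by
    constructor
    · intro h
      by_contra hd
      by_cases hd0 : algebraMap D L d = 0
      · exact ht₀R ⟨d, hd, by rw [hd0, zero_mul]; exact zero_mem _⟩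
      exact h (IsUnit.of_mul_eq_one
        (⟨(algebraMap D L d)⁻¹, hRV ⟨d, hd, by rw [mul_inv_cancel₀ hd0]; exact one_mem _⟩⟩ : V')
        (Subtype.ext (mul_inv_cancel₀ hd0)))
    · intro hd hu
      apply ht₀V
      obtain ⟨q, hq⟩ := hu.exists_left_inv
      have h1 : (q : L) * algebraMap D L d = 1 := congrArg Subtype.val hq
      have h2 : algebraMap D L d * c t₀ ∈ V := hRV (mem_locIC_of_mem P (by
        rw [← Algebra.smul_def]
        exact smul_mem_of_mem_colonKer C g (hc t₀) (hg.symm ▸ hd)))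
      have h3 : (q : L) * (algebraMap D L d * c t₀) ∈ V := V.mul_mem _ _ q.2 h2
      rwa [← mul_assoc, h1, one_mul] at h3
  refine ht₀V (coeff_mem_of_isIntegral hred P b e he V V' (fun z => Iff.rfl) (IsLocalRing.maximalIdeal V')
    (fun z hz => hz) ιDV hm c ?_ t₀ ht₀)
  let φ := Algebra.TensorProduct.map V'.val (AlgHom.id A A')
  letI : Algebra (V' ⊗[A] A') (L ⊗[A] A') := φ.toRingHom.toAlgebra
  let ι' : integralClosure D L →ₐ[A] V' :=
    ((IsScalarTower.toAlgHom A (↥(integralClosure D L)) L) : ↥(integralClosure D L) →ₐ[A] L).codRestrict V' fun z => hRV (mem_locIC_of_mem P z.2)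
  have hMV : ∀ u ∈ tensorImage (A := A) (A' := A') C, IsIntegral (V' ⊗[A] A') u := by
    rintro _ ⟨u, rfl⟩
    have : AlgebraTensorModule.map C.subtype (LinearMap.id : A' →ₗ[A] A') u =
        φ (Algebra.TensorProduct.map ι' (AlgHom.id A A') u) := by
      induction u using TensorProduct.induction_on with
      | zero => simp
      | tmul a c => rfl
      | add a c ha hc => simp only [map_add, ha, hc]
    exact this ▸ isIntegral_algebraMap
  have hxV : IsIntegral (V' ⊗[A] A') x := by
    obtain ⟨p, hp, hpx⟩ := hx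
    refine ⟨p.map (Algebra.TensorProduct.map ιDV (AlgHom.id A A')).toRingHom, hp.map _, ?_⟩
    rw [Polynomial.eval₂_map]
    have hι : (algebraMap (V' ⊗[A] A') (L ⊗[A] A')).comp (Algebra.TensorProduct.map ιDV (AlgHom.id A A')).toRingHom =
        (Algebra.TensorProduct.map (IsScalarTower.toAlgHom A D L) (AlgHom.id A A')).toRingHom := by
      refine RingHom.ext fun u => ?_
      induction u using TensorProduct.induction_on with
      | zero => simp
      | tmul a c => rfl
      | add a c ha hc => simp only [map_add, ha, hc]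
    rw [hι]
    exact hpx
  have hsV : IsIntegral (V' ⊗[A] A') (s • x) := by
    rw [show s • x = φ (ιDV s ⊗ₜ 1) * x by
      rw [Algebra.smul_def]
      rfl]
    exact isIntegral_algebraMap.mul hxV
  have := hsV.sub (hMV _ hsx)
  rwa [sub_sub_cancel] at this

/-- EGA IV 6.14.4: an element of `L ⊗ A'` integral over `D ⊗ A'` comes from the integral closure of `D`. -/
theorem mem_tensorImage_of_integral (hred : ∀ (K : Type u) [Field K] [Algebra A K], IsReduced (K ⊗[A] A'))
    [IsNoetherianRing D] (x : L ⊗[A] A')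
    (hx : (Algebra.TensorProduct.map (IsScalarTower.toAlgHom A D L) (AlgHom.id A A')).toRingHom.IsIntegralElem x) :
    x ∈ tensorImage (A := A) (A' := A') (integralClosure D L).toSubmodule := by
  set M := tensorImage (A := A) (A' := A') (integralClosure D L).toSubmodule
  by_contra hxM
  let col : D → Ideal D := fun d => M.comap (LinearMap.toSpanSingleton D (L ⊗[A] A') (d • x))
  obtain ⟨I, ⟨d, hd, rfl⟩, hmax⟩ :=
    set_has_maximal_iff_noetherian.2 (inferInstance : IsNoetherian D D)
      {I | ∃ d, d • x ∉ M ∧ col d = I} ⟨col 1, 1, by rwa [one_smul], rfl⟩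
  have hmem : ∀ (d a : D), a ∈ col d ↔ (a * d) • x ∈ M := fun d a => by
    show a • (d • x) ∈ M ↔ _
    rw [mul_smul]
  haveI : (col d).IsPrime := by
    refine ⟨fun h => hd (by simpa using (hmem d 1).1 (h ▸ Submodule.mem_top)), fun {a b} hab => ?_⟩
    by_contra hcon
    rw [not_or] at hcon
    have hbd : (b * d) • x ∉ M := fun h => hcon.2 ((hmem d b).2 h)
    have hle : col d ≤ col (b * d) := fun q hq => by
      rw [hmem, show q * (b * d) = b * (q * d) by ring, mul_smul]
      exact M.smul_mem _ ((hmem d q).1 hq)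
    have heq : col d = col (b * d) := eq_of_le_of_not_lt hle (hmax _ ⟨b * d, hbd, rfl⟩)
    apply hcon.1
    rw [heq, hmem, ← mul_assoc]
    exact (hmem d _).1 hab
  have hdx : (Algebra.TensorProduct.map (IsScalarTower.toAlgHom A D L) (AlgHom.id A A')).toRingHom.IsIntegralElem
      (d • x) := by
    have h1 : d • x = Algebra.TensorProduct.map (IsScalarTower.toAlgHom A D L) (AlgHom.id A A') (d ⊗ₜ 1) * x := by
      rw [Algebra.smul_def]
      rfl
    rw [h1]
    exact RingHom.IsIntegralElem.mul _ (RingHom.isIntegralElem_map _) hx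
  obtain ⟨s, hs, hsx⟩ := exists_smul_mem_of_integral hred (col d) (d • x) hdx fun q hq => by
    rw [← mul_smul]
    exact (hmem d q).1 hq
  rw [← mul_smul] at hsx
  exact hs ((hmem d s).2 hsx)

end Groth.Agent.GeomFieldLib
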