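import Mathlib.FieldTheory.SeparablyGenerated
import Mathlib.FieldTheory.PurelyInseparable.PerfectClosure
import Mathlib.FieldTheory.IsAlgClosed.AlgebraicClosure
import Mathlib.RingTheory.AlgebraicIndependent.Adjoin

/-!
# A finitely generated extension becomes separably generated after a finite radicial extension
-/

set_option autoImplicit false
set_option linter.style.haveILetI false

universe u

open IntermediateField

namespace Groth.Agent.GeomFieldLib

variable (k K : Type u) [Field k] [Field K] [Algebra k K]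

/-- For `K/k` finitely generated there are a finite purely inseparable `k'` inside an algebraic closure of `K`,
a finite family `t` algebraically independent over `k'` and finitely many elements separable over `k'(t)`
generating over `k'(t)` a field containing `K`. -/
theorem exists_pi_separable [Algebra.EssFiniteType k K] :
    ∃ (k' : IntermediateField k (AlgebraicClosure K)) (t g : Finset (AlgebraicClosure K)),
      FiniteDimensional k k' ∧ IsPurelyInseparable k k' ∧
        AlgebraicIndependent k' ((↑) : t → AlgebraicClosure K) ∧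
        (∀ x ∈ g, IsSeparable (adjoin k' (t : Set (AlgebraicClosure K))) x) ∧
        ∀ y : K, algebraMap K (AlgebraicClosure K) y ∈
          adjoin (adjoin k' (t : Set (AlgebraicClosure K))) (g : Set (AlgebraicClosure K)) := by
  classical
  let Ω := AlgebraicClosure K
  let P := perfectClosure k Ω
  obtain ⟨g₀, hg₀⟩ := IntermediateField.fg_top k K
  let g : Finset Ω := g₀.image (algebraMap K Ω)
  let E : IntermediateField P Ω := adjoin P (g : Set Ω)
  haveI : Algebra.EssFiniteType P E := essFiniteType_iff.2 ⟨g, rfl⟩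
  obtain ⟨t₀, ht₀, hsep⟩ := exists_isTranscendenceBasis_and_isSeparable_of_perfectField P E
  let t : Finset Ω := t₀.image Subtype.val
  have hindP : AlgebraicIndependent P ((↑) : t → Ω) := by
    have h1 : AlgebraicIndependent P (fun x : t₀ => ((x : E) : Ω)) :=
      (ht₀.1.map' (f := E.val) Subtype.val_injective)
    have hmem : ∀ z : t, ∃ x : t₀, ((x : E) : Ω) = z.1 := fun z => by
      obtain ⟨x, hx, hxz⟩ := Finset.mem_image.1 z.2
      exact ⟨⟨x, hx⟩, hxz⟩
    choose e he using hmem
    have h2 := h1.comp e fun a b hab => Subtype.ext (by rw [← he a, ← he b, hab])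
    have h3 : (fun x : t₀ => ((x : E) : Ω)) ∘ e = ((↑) : t → Ω) := funext he
    rwa [h3] at h2
  have hpoly : ∀ x ∈ g, ∃ q : Polynomial Ω, q.Monic ∧ q.Separable ∧ q.eval x = 0 ∧
      ∀ i, q.coeff i ∈ adjoin k ((P : Set Ω) ∪ (t : Set Ω)) := by
    intro x hx
    let x' : E := ⟨x, subset_adjoin P _ hx⟩
    let F₀ := adjoin P (t₀ : Set E)
    haveI : Algebra.IsSeparable F₀ E := hsep
    have hs : IsSeparable F₀ x' := Algebra.IsSeparable.isSeparable F₀ x'
    refine ⟨(minpoly F₀ x').map ((E.val : E →+* Ω).comp (algebraMap F₀ E)),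
      (minpoly.monic hs.isIntegral).map _, Polynomial.Separable.map hs, ?_, fun i => ?_⟩
    · rw [Polynomial.eval_map]
      have := congrArg (E.val : E →+* Ω) (minpoly.aeval F₀ x')
      rw [Polynomial.aeval_def, Polynomial.hom_eval₂, map_zero] at this
      exact this
    · rw [Polynomial.coeff_map]
      have h1 : ((E.val : E →+* Ω).comp (algebraMap F₀ E)) ((minpoly F₀ x').coeff i) ∈
          adjoin P (t : Set Ω) := by
        rw [show (t : Set Ω) = E.val '' (t₀ : Set E) from Finset.coe_image, ← adjoin_map]
        exact ⟨_, ((minpoly F₀ x').coeff i).2, rfl⟩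
      rw [← restrictScalars_adjoin]
      exact h1
  choose! q hqm hqs hq0 hqc using hpoly
  have hfin : ∀ y : Ω, y ∈ adjoin k ((P : Set Ω) ∪ (t : Set Ω)) →
      ∃ C : Finset Ω, (C : Set Ω) ⊆ P ∧ y ∈ adjoin k ((C : Set Ω) ∪ (t : Set Ω)) := by
    intro y hy
    obtain ⟨T, hT, hyT⟩ := exists_finset_of_mem_adjoin hy
    refine ⟨T.filter (fun z => z ∈ P), fun z hz => (Finset.mem_filter.1 hz).2,
      adjoin.mono k _ _ (fun z hz => ?_) hyT⟩
    rcases hT hz with h | h
    · exact Or.inl (Finset.mem_filter.2 ⟨hz, h⟩)
    · exact Or.inr h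
  choose! Cof hCP hC using hfin
  let C : Finset Ω := g.biUnion fun x => (Finset.range ((q x).natDegree + 1)).biUnion fun i => Cof ((q x).coeff i)
  have hCsub : (C : Set Ω) ⊆ P := fun z hz => by
    obtain ⟨x, hx, i, -, hzi⟩ : ∃ x ∈ g, ∃ i ∈ Finset.range ((q x).natDegree + 1), z ∈ Cof ((q x).coeff i) := by
      simpa [C] using hz
    exact hCP _ (hqc x hx i) hzi
  let k' : IntermediateField k Ω := adjoin k (C : Set Ω)
  have hk'P : k' ≤ P := adjoin_le_iff.2 hCsub
  haveI hpi : IsPurelyInseparable k k' := (le_perfectClosure_iff k Ω k').1 hk'P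
  haveI hfd : FiniteDimensional k k' := finiteDimensional_adjoin fun x hx =>
    (isIntegral_iff (S := P) (x := (⟨x, hCsub hx⟩ : P))).1 (Algebra.IsIntegral.isIntegral _)
  have hind : AlgebraicIndependent k' ((↑) : t → Ω) := by
    letI : Algebra k' P := (IntermediateField.inclusion hk'P).toRingHom.toAlgebra
    haveI : IsScalarTower k' P Ω := IsScalarTower.of_algebraMap_eq fun _ => rfl
    exact hindP.restrictScalars (RingHom.injective _)
  refine ⟨k', t, g, hfd, hpi, hind, fun x hx => ?_, fun y => ?_⟩
  · let F := adjoin k' (t : Set Ω)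
    have hle : adjoin k ((C : Set Ω) ∪ (t : Set Ω)) = F.restrictScalars k :=
      (adjoin_adjoin_left k (C : Set Ω) (t : Set Ω)).symm
    have hl : q x ∈ Polynomial.lifts (algebraMap F Ω) := by
      rw [Polynomial.lifts_iff_coeff_lifts]
      intro i
      by_cases hi : i ∈ Finset.range ((q x).natDegree + 1)
      · have h1 := hC _ (hqc x hx i)
        have h2 : ((Cof ((q x).coeff i) : Set Ω)) ⊆ (C : Set Ω) := fun z hz => by
          simpa [C] using ⟨x, hx, i, by simpa using hi, hz⟩
        have h3 := adjoin.mono k _ _ (Set.union_subset_union_left _ h2) h1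
        rw [hle] at h3
        exact ⟨⟨_, h3⟩, rfl⟩
      · exact ⟨0, by rw [map_zero, Polynomial.coeff_eq_zero_of_natDegree_lt (by simpa using hi)]⟩
    obtain ⟨q', hq'⟩ := Polynomial.mem_lifts _ |>.1 hl
    have hq's : q'.Separable := (Polynomial.separable_map (f := algebraMap F Ω)).1 (hq' ▸ hqs x hx)
    exact hq's.of_dvd (minpoly.dvd F x (by rw [Polynomial.aeval_def, ← Polynomial.eval_map, hq', hq0 x hx]))
  · have hy : y ∈ adjoin k (g₀ : Set K) := by rw [hg₀]; trivial
    let L := adjoin (adjoin k' (t : Set Ω)) (g : Set Ω)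
    show algebraMap K Ω y ∈ L
    induction hy using adjoin_induction with
    | mem x hx => exact subset_adjoin _ _ (Finset.mem_image_of_mem _ hx)
    | algebraMap c =>
      rw [← IsScalarTower.algebraMap_apply]
      exact L.algebraMap_mem ⟨algebraMap k Ω c,
        (adjoin k' (t : Set Ω)).algebraMap_mem ⟨algebraMap k Ω c, k'.algebraMap_mem c⟩⟩
    | add x y _ _ hx hy => rw [map_add]; exact L.add_mem hx hy
    | inv x _ hx => rw [map_inv₀]; exact L.inv_mem hx
    | mul x y _ _ hx hy => rw [map_mul]; exact L.mul_mem hx hy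

end Groth.Agent.GeomFieldLib
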