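import Groth.Agent.GeomFieldLib.Corollaries
import Groth.Agent.CAlgA.VNR

/-!
# Localizations of tensor products over a separable algebraic extension of the base field
-/

set_option autoImplicit false
set_option linter.style.haveILetI false

universe u

open TensorProduct

namespace Groth.Agent.GeomFieldLib

theorem nonempty_localization_equiv_of_section {R Q : Type u} [CommRing R] [CommRing Q] (φ : R →+* Q)
    (hφ : Function.Surjective φ) (q : Ideal Q) [q.IsPrime]
    (ψ : Q →+* Localization.AtPrime (q.comap φ)) (hψ : ∀ r, ψ (φ r) = algebraMap R _ r) :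
    Nonempty (Localization.AtPrime (q.comap φ) ≃+* Localization.AtPrime q) := by
  refine ⟨RingEquiv.ofBijective (Localization.localRingHom (q.comap φ) q φ rfl) ⟨?_, ?_⟩⟩
  · rw [injective_iff_map_eq_zero]
    intro x hx
    obtain ⟨r, s, rfl⟩ := IsLocalization.exists_mk'_eq (q.comap φ).primeCompl x
    rw [Localization.localRingHom_mk', IsLocalization.mk'_eq_zero_iff] at hx
    obtain ⟨⟨t, ht⟩, htr⟩ := hx
    obtain ⟨t', rfl⟩ := hφ t
    have h1 : algebraMap R (Localization.AtPrime (q.comap φ)) (t' * r) = 0 := by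
      rw [← hψ, map_mul φ, htr, map_zero]
    rw [map_mul] at h1
    have hu : IsUnit (algebraMap R (Localization.AtPrime (q.comap φ)) t') :=
      IsLocalization.map_units (Localization.AtPrime (q.comap φ)) (⟨t', ht⟩ : (q.comap φ).primeCompl)
    have h2 : algebraMap R (Localization.AtPrime (q.comap φ)) r = 0 := (hu.mul_right_eq_zero).1 h1
    obtain ⟨c, hc⟩ := (IsLocalization.map_eq_zero_iff (q.comap φ).primeCompl _ r).1 h2
    exact (IsLocalization.mk'_eq_zero_iff r s).2 ⟨c, hc⟩
  · intro y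
    obtain ⟨a, ⟨b, hb⟩, rfl⟩ := IsLocalization.exists_mk'_eq q.primeCompl y
    obtain ⟨r, rfl⟩ := hφ a
    obtain ⟨s, rfl⟩ := hφ b
    exact ⟨IsLocalization.mk' _ r (⟨s, hb⟩ : (q.comap φ).primeCompl), Localization.localRingHom_mk' _ _ _ _ _ _⟩

variable (k k' K L A : Type u) [Field k] [Field k'] [Algebra k k'] [Algebra.IsSeparable k k'] [Field K]
  [Algebra k K] [Field L] [Algebra k' L] [Algebra k L] [IsScalarTower k k' L] [CommRing A] [Algebra k A]
  [Algebra k' A] [IsScalarTower k k' A]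

theorem exists_localization_equiv_of_separable (π : K ⊗[k] k' →ₐ[k] L) (hπ : Function.Surjective π)
    (hd : ∀ d, π (1 ⊗ₜ d) = algebraMap k' L d) :
    ∃ φ : K ⊗[k] A →+* L ⊗[k'] A, (∀ c a, φ (c ⊗ₜ a) = π (c ⊗ₜ 1) ⊗ₜ a) ∧
      ∀ (q : Ideal (L ⊗[k'] A)) [q.IsPrime],
        Nonempty (Localization.AtPrime (q.comap φ) ≃+* Localization.AtPrime q) := by
  let φ : K ⊗[k] A →ₐ[k] L ⊗[k'] A :=
    Algebra.TensorProduct.lift
      (((Algebra.TensorProduct.includeLeft : L →ₐ[k'] L ⊗[k'] A).restrictScalars k).comp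
        (π.comp Algebra.TensorProduct.includeLeft))
      ((Algebra.TensorProduct.includeRight : A →ₐ[k'] L ⊗[k'] A).restrictScalars k) fun _ _ => mul_comm _ _
  have hφt : ∀ c a, φ (c ⊗ₜ a) = π (c ⊗ₜ 1) ⊗ₜ a := fun c a => by
    simp [φ]
  have hπ' : ∀ c d, π (c ⊗ₜ d) = π (c ⊗ₜ 1) * algebraMap k' L d := fun c d => by
    rw [← hd, ← map_mul, Algebra.TensorProduct.tmul_mul_tmul, mul_one, one_mul]
  let j : K ⊗[k] k' →ₐ[k] K ⊗[k] A :=
    Algebra.TensorProduct.map (AlgHom.id k K) (IsScalarTower.toAlgHom k k' A)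
  have hj : ∀ x, φ (j x) = π x ⊗ₜ[k'] (1 : A) := fun x => by
    induction x using TensorProduct.induction_on with
    | zero => rw [map_zero, map_zero, map_zero, TensorProduct.zero_tmul]
    | tmul c d =>
      rw [Algebra.TensorProduct.map_tmul, hφt, hπ' c d]
      show π (c ⊗ₜ 1) ⊗ₜ[k'] algebraMap k' A d = _
      rw [Algebra.algebraMap_eq_smul_one, ← TensorProduct.smul_tmul, Algebra.smul_def, mul_comm]
    | add x y hx hy => rw [map_add, map_add, hx, hy, map_add, TensorProduct.add_tmul]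
  have hsurj : Function.Surjective φ := fun y => by
    induction y using TensorProduct.induction_on with
    | zero => exact ⟨0, map_zero _⟩
    | tmul l a =>
      obtain ⟨x, rfl⟩ := hπ l
      refine ⟨j x * (1 ⊗ₜ a), ?_⟩
      rw [map_mul, hj, hφt, show π ((1 : K) ⊗ₜ (1 : k')) = 1 from map_one π,
        Algebra.TensorProduct.tmul_mul_tmul, mul_one, one_mul]
    | add x y hx hy =>
      obtain ⟨a, rfl⟩ := hx
      obtain ⟨b, rfl⟩ := hy
      exact ⟨a + b, map_add _ _ _⟩
  refine ⟨φ.toRingHom, hφt, fun q _ => ?_⟩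
  let P := q.comap φ.toRingHom
  let L0 := Localization.AtPrime P
  let g : K ⊗[k] k' →+* L0 := (algebraMap (K ⊗[k] A) L0).comp j.toRingHom
  haveI : IsReduced (K ⊗[k] k') := CAlgA.VNR.isReduced_tensor_separable K k'
  haveI : Algebra.IsIntegral K (K ⊗[k] k') := inferInstance
  have hker : RingHom.ker π.toRingHom ≤ RingHom.ker g := fun x hx => by
    obtain ⟨b, hb⟩ := CAlgA.VNR.exists_sq_mul (k := K) x
    have hx0 : π x = 0 := hx
    have hu : IsUnit (g (1 - x * b)) := IsLocalization.map_units L0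
      (⟨j (1 - x * b), fun h => by
        have h' : φ (j (1 - x * b)) ∈ q := h
        rw [hj, map_sub, map_mul, hx0, zero_mul, sub_zero, map_one] at h'
        exact (inferInstance : q.IsPrime).one_notMem h'⟩ : P.primeCompl)
    rw [RingHom.mem_ker]
    refine (hu.mul_left_eq_zero).1 ?_
    rw [← map_mul, mul_sub, mul_one, ← mul_assoc, ← hb, sub_self, map_zero]
  let gL : L →+* L0 := RingHom.liftOfSurjective π.toRingHom hπ ⟨g, hker⟩
  have hgL : ∀ x, gL (π x) = g x := fun x =>
    RingHom.liftOfRightInverse_comp_apply π.toRingHom _ _ ⟨g, hker⟩ x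
  letI : Algebra k' L0 := (g.comp (Algebra.TensorProduct.includeRight : k' →ₐ[k] K ⊗[k] k').toRingHom).toAlgebra
  let hA : A →+* L0 := (algebraMap (K ⊗[k] A) L0).comp (Algebra.TensorProduct.includeRight : A →ₐ[k] K ⊗[k] A).toRingHom
  let gL' : L →ₐ[k'] L0 := AlgHom.mk gL fun d => (congrArg gL (hd d).symm).trans (hgL _)
  let hA' : A →ₐ[k'] L0 := AlgHom.mk hA fun d => rfl
  let ψ : L ⊗[k'] A →ₐ[k'] L0 := Algebra.TensorProduct.lift gL' hA' fun _ _ => mul_comm _ _
  have hψ : ∀ r, ψ (φ r) = algebraMap (K ⊗[k] A) L0 r := fun r => by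
    induction r using TensorProduct.induction_on with
    | zero => rw [map_zero, map_zero, map_zero]
    | tmul c a =>
      rw [hφt, Algebra.TensorProduct.lift_tmul]
      show gL (π (c ⊗ₜ 1)) * algebraMap _ L0 ((1 : K) ⊗ₜ[k] a) = _
      rw [hgL]
      show algebraMap _ L0 (j (c ⊗ₜ 1)) * _ = _
      rw [← map_mul, Algebra.TensorProduct.map_tmul, map_one, Algebra.TensorProduct.tmul_mul_tmul,
        AlgHom.coe_id, id, one_mul, mul_one]
    | add x y hx hy => rw [map_add, map_add, hx, hy, map_add]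
  exact nonempty_localization_equiv_of_section φ.toRingHom hsurj q ψ.toRingHom hψ

end Groth.Agent.GeomFieldLib
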